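import Groth.Agent.CohBCLib.HCmp
import Groth.Agent.QCohLib.Bound

/-! The universal complex of a flat coherent module on a proper scheme over a Noetherian affine base. -/

set_option autoImplicit false

universe u

open CategoryTheory CategoryTheory.Limits AlgebraicGeometry TopologicalSpace Opposite HomologicalComplex
open MonoidalCategory

namespace CohBCLib

variable {A : Type u} [CommRing A] {X : Scheme.{u}} (f : X ⟶ Spec (CommRingCat.of A))

include f in
/-- A finite cover with affine intersections. -/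
theorem exists_good_cover [QuasiCompact f] [IsSeparated f] :
    ∃ (ι : Type u) (_ : Fintype ι) (U : ι → X.Opens), (⨆ i, U i) = ⊤ ∧
      (∀ (n : ℕ) (J : Fin (n + 1) → ι), IsAffineOpen (capX U J)) ∧
      ∀ t : Finset ι, t.Nonempty → IsAffineOpen (t.inf U) := by
  classical
  have : X.IsSeparated := ⟨by
    rw [← terminal.comp_from f]
    infer_instance⟩
  have : CompactSpace X := QuasiCompact.compactSpace_of_compactSpace f
  let 𝒰 := X.affineCover.finiteSubcover
  have : Fintype 𝒰.I₀ := Fintype.ofFinite _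
  let U : 𝒰.I₀ → X.Opens := fun i => (𝒰.f i).opensRange
  have hU : ∀ i, IsAffineOpen (U i) := fun i => isAffineOpen_opensRange _
  refine ⟨ULift.{u} (Fin (Fintype.card 𝒰.I₀)), inferInstance,
    fun i => U ((Fintype.equivFin 𝒰.I₀).symm i.down), ?_, fun n J => AtlasCoh.isAffineOpen_cap _ (fun i => hU _) J,
    fun t ht => ?_⟩
  · rw [eq_top_iff]
    refine le_trans (le_of_eq 𝒰.iSup_opensRange.symm) (iSup_le fun i => ?_)
    exact le_iSup_of_le ⟨Fintype.equivFin 𝒰.I₀ i⟩ (by simp [U])
  · induction ht using Finset.Nonempty.cons_induction with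
    | singleton a => rw [Finset.inf_singleton]; exact hU _
    | cons a s ha hs ih => rw [Finset.inf_cons]; exact (hU _).inf ih

/-- The functor `M ↦ H^p(X, F ⊗_A M)`, linearly. -/
noncomputable abbrev TH (F : X.Modules) (p : ℕ) : ModuleCat.{u} A ⥤ ModuleCat.{u} A := tA f F ⋙ HA f p

/-- A universal complex for the cohomology of `F ⊗_A -`, in chain indexing. -/
structure Univ (F : X.Modules) where
  /-- the complex -/
  P : ChainComplex (ModuleCat.{u} A) ℤ
  fin : ∀ i, Module.Finite A (P.X i) ∧ Module.Free A (P.X i)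
  /-- a bound -/
  N : ℕ
  below : ∀ i : ℤ, i < -(N : ℤ) → IsZero (P.X i)
  pos : ∀ (M : ModuleCat.{u} A) (i : ℤ), 0 < i → IsZero (CohIII.T P i M)
  /-- the comparison -/
  iso : ∀ p : ℕ, CohIII.TFun P (-(p : ℤ)) ≅ TH f F p

variable [IsNoetherianRing A]

omit [IsNoetherianRing A] in
theorem f_eqToHom {P Q : CochainComplex (ModuleCat.{u} A) ℤ} (φ : P ⟶ Q) {a b c d : ℤ}
    (h₁ : a = b) (h₂ : b = c) (h₃ : c = d) :
    φ.f a ≫ eqToHom (congrArg Q.X h₁) ≫ eqToHom (congrArg Q.X h₂) ≫ eqToHom (congrArg Q.X h₃) =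
      (eqToHom (congrArg P.X h₁) ≫ eqToHom (congrArg P.X h₂) ≫ eqToHom (congrArg P.X h₃)) ≫ φ.f d := by
  subst h₁ h₂ h₃
  simp

omit [IsNoetherianRing A] in
theorem negHomologyIso_natural {P Q : CochainComplex (ModuleCat.{u} A) ℤ} (φ : P ⟶ Q) (p q : ℤ) (h : p = -q) :
    homologyMap (negMap φ) q ≫ (negHomologyIso Q p q h).hom =
      (negHomologyIso P p q h).hom ≫ homologyMap φ p := by
  subst h
  change ShortComplex.homologyMap _ ≫ ShortComplex.homologyMap _ =
    ShortComplex.homologyMap _ ≫ ShortComplex.homologyMap _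
  rw [← ShortComplex.homologyMap_comp, ← ShortComplex.homologyMap_comp]
  congr 1
  ext1
  · exact f_eqToHom φ (a := -(ComplexShape.down ℤ).prev q) (b := -(q + 1)) (c := -(q + 1))
      (d := (ComplexShape.up ℤ).prev (-q)) (by simp) rfl (by simp; omega)
  · exact f_eqToHom φ (a := -q) (b := -q) (c := -q) (d := -q) rfl rfl rfl
  · exact f_eqToHom φ (a := -(ComplexShape.down ℤ).next q) (b := -(q - 1)) (c := -q + 1)
      (d := (ComplexShape.up ℤ).next (-q)) (by simp) (by omega) (by simp)

/-- The negated complex computes the same functors. -/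
noncomputable def negTIso (P : CochainComplex (ModuleCat.{u} A) ℤ) (p q : ℤ) (h : p = -q) :
    CohIII.TFun (negCx P) q ≅ CohIII.TFun P p :=
  NatIso.ofComponents (fun M => negHomologyIso (CohIII.tensorObj P M) p q h)
    fun {M M'} g => negHomologyIso_natural (CohIII.tensorMap P g) p q h

/-- The data at the level of the Čech complex. -/
theorem exists_model_cech [IsProper f] (F : X.Modules) (hF : Coh.IsCoh F) (hfl : FlatMod.IsFlatOver f F)
    {ι : Type u} [Fintype ι] (U : ι → X.Opens) (hcov : (⨆ i, U i) = ⊤)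
    (haff : ∀ (n : ℕ) (J : Fin (n + 1) → ι), IsAffineOpen (capX U J))
    (hinf : ∀ t : Finset ι, t.Nonempty → IsAffineOpen (t.inf U)) :
    Nonempty (Model ((cechA f U).obj F) (Fintype.card ι)) := by
  have : Coh.IsQCoh F := hF.1
  refine exists_model _ (fun n => flat_cochA f U F haff hfl n) (fun n => ?_) _ fun M n hn => ?_
  · have h : Module.Finite A ((HA f n).obj F) := AtlasCoh.finiteCoh_of_isProper f F hF n
    exact @Module.Finite.equiv _ _ _ _ _ _ _ _ h (hCmp f U haff hcov n F).symm.toLinearEquiv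
  · have := isQCoh_tA f F M
    have h : Subsingleton (Coh.HH X ((tA f F).obj M) n) := by
      refine (QCohLib.subsingleton_H_iff _ n).2 ?_
      have := QCohLib.subsingleton_HU_finsetSup ((tA f F).obj M) Finset.univ U (fun t ht _ => hinf t ht) n
        (by rw [Finset.card_univ]; omega)
      rwa [Finset.sup_univ_eq_iSup, hcov] at this
    have hz : IsZero ((TH f F n).obj M) := @ModuleCat.isZero_of_subsingleton _ _ _ h
    exact hz.of_iso ((haTAIso f U haff hcov F n).app M)

/-- From a model to a universal complex. -/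
noncomputable def univOfModel (F : X.Modules) [Coh.IsQCoh F] {ι : Type u} [Fintype ι] (U : ι → X.Opens)
    (hcov : (⨆ i, U i) = ⊤) (haff : ∀ (n : ℕ) (J : Fin (n + 1) → ι), IsAffineOpen (capX U J))
    {N : ℕ} (m : Model ((cechA f U).obj F) N) : Univ f F where
  P := negCx m.P
  fin i := m.fin (-i)
  N := N
  below i hi := m.above (-i) (by omega)
  pos M i hi := (m.neg M (-i) (by omega)).of_iso ((negTIso m.P (-i) i rfl).app M)
  iso p := negTIso m.P p (-(p : ℤ)) (neg_neg _).symm ≪≫ m.iso p ≪≫ haTAIso f U haff hcov F p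

/-- Existence of a universal complex. -/
theorem exists_univ [IsProper f] (F : X.Modules) (hF : Coh.IsCoh F) (hfl : FlatMod.IsFlatOver f F) :
    Nonempty (Univ f F) := by
  have : Coh.IsQCoh F := hF.1
  obtain ⟨ι, _, U, hcov, haff, hinf⟩ := exists_good_cover f
  obtain ⟨m⟩ := exists_model_cech f F hF hfl U hcov haff hinf
  exact ⟨univOfModel f F U hcov haff m⟩

omit [IsNoetherianRing A] in
/-- `F ⊗_A A ≅ F`. -/
noncomputable def tAUnitIso (F : X.Modules) : (tA f F).obj (ModuleCat.of A A) ≅ F :=
  ((DCoh.tensorBi (X := X)).flip.obj F).mapIso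
      ((Scheme.Modules.pullback f).mapIso (tildeSelf (R := CommRingCat.of A)) ≪≫
        KFlatLib.pullUnitIso f) ≪≫ KFlatLib.tensUnitIso F

end CohBCLib
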