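import Groth.Agent.CohBCLib.Global
import Groth.Agent.FlatLib.QStalk
import Groth.Agent.KFlatLib.PerfectPull
import Mathlib.CategoryTheory.Abelian.RightDerived

/-! Local freeness and vanishing of higher direct images from the universal complex. -/

set_option autoImplicit false
set_option maxHeartbeats 1000000

universe u

open CategoryTheory CategoryTheory.Limits AlgebraicGeometry TopologicalSpace Opposite
open RpushLib (overW)
open FlatCxLib (fibreRank)

namespace CohBCLib

theorem exists_point {Y : Scheme.{u}} (y : Y) :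
    ∃ (W : Y.Opens) (hW : IsAffineOpen W) (x : PrimeSpectrum Γ(Y, W)), hW.fromSpec x = y := by
  obtain ⟨W, hW, hy⟩ := QCohLib.exists_affine_nhd y
  exact ⟨W, hW, hW.primeIdealOf ⟨y, hy⟩, hW.fromSpec_primeIdealOf ⟨y, hy⟩⟩

theorem flat_sections_of_isFinLocFree {Y : Scheme.{u}} (G : Y.Modules) (hG : FlatMod.IsFinLocFree G)
    {W : Y.Opens} (hW : IsAffineOpen W) : Module.Flat Γ(Y, W) Γ(G, W) := by
  have : Coh.IsQCoh G := (LocSuppLib.isCoh_of_isFinLocFree hG).1
  let pt : ∀ (I : Ideal Γ(Y, W)) [I.IsMaximal], Y := fun I hI => hW.fromSpec ⟨I, hI.isPrime⟩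
  have hpt : ∀ (I : Ideal Γ(Y, W)) [I.IsMaximal], pt I ∈ W := fun I hI => by
    rw [← SetLike.mem_coe, ← hW.range_fromSpec]
    exact Set.mem_range_self _
  let _ : ∀ (I : Ideal Γ(Y, W)) [I.IsMaximal], Module Γ(Y, W) (G.presheaf.stalk (pt I)) := fun I _ =>
    Module.compHom _ (Y.presheaf.germ W (pt I) (hpt I)).hom
  have : ∀ (I : Ideal Γ(Y, W)) [I.IsMaximal], IsLocalizedModule I.primeCompl (FlatLib.germLin G (hpt I)) := by
    intro I hI
    have h := FlatLib.isLocalizedModule_germLin G hW (hpt I)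
    have e : (hW.primeIdealOf ⟨pt I, hpt I⟩).asIdeal = I := by
      rw [show hW.primeIdealOf ⟨pt I, hpt I⟩ = (⟨I, hI.isPrime⟩ : PrimeSpectrum Γ(Y, W)) from
        hW.fromSpec.isOpenEmbedding.injective (hW.fromSpec_primeIdealOf ⟨pt I, hpt I⟩)]
    simp only [e] at h
    exact h
  refine Module.flat_of_localized_maximal (R := Γ(Y, W)) Γ(G, W) fun I hI => ?_
  suffices h : Module.Flat Γ(Y, W) (G.presheaf.stalk (pt I)) from
    Module.Flat.of_linearEquiv (IsLocalizedModule.iso I.primeCompl (FlatLib.germLin G (hpt I)))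
  let _ : Algebra Γ(Y, W) (Y.presheaf.stalk (pt I)) := (Y.presheaf.germ W (pt I) (hpt I)).hom.toAlgebra
  have : IsScalarTower Γ(Y, W) (Y.presheaf.stalk (pt I)) (G.presheaf.stalk (pt I)) :=
    IsScalarTower.of_algebraMap_smul fun _ _ => rfl
  have : IsLocalization.AtPrime (Y.presheaf.stalk (pt I)) (hW.primeIdealOf ⟨pt I, hpt I⟩).asIdeal :=
    hW.isLocalization_stalk ⟨pt I, hpt I⟩
  have : Module.Flat Γ(Y, W) (Y.presheaf.stalk (pt I)) :=
    IsLocalization.flat _ (hW.primeIdealOf ⟨pt I, hpt I⟩).asIdeal.primeCompl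
  have : Module.Flat (Y.presheaf.stalk (pt I)) (G.presheaf.stalk (pt I)) :=
    KFlatLib.isFlat_of_isFinLocFree hG (pt I)
  exact Module.Flat.trans Γ(Y, W) (Y.presheaf.stalk (pt I)) _

variable {A : Type u} [CommRing A] [IsNoetherianRing A]

theorem finite_homology (P : ChainComplex (ModuleCat.{u} A) ℤ)
    (hP : ∀ i, Module.Finite A (P.X i) ∧ Module.Free A (P.X i)) (p : ℤ) :
    Module.Finite A (P.homology p) := by
  have := FlatCxLib.finite_W P (hP p).1
  have : IsNoetherian A (FlatCxLib.W P p) := isNoetherian_of_isNoetherianRing_of_finite A _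
  exact Module.Finite.equiv (hKer P p).symm

variable {X : Scheme.{u}} {f : X ⟶ Spec (CommRingCat.of A)} {F : X.Modules}

omit [IsNoetherianRing A] in
theorem Univ.flat_W_zero (U : Univ f F) : Module.Flat A (FlatCxLib.W U.P 0) := by
  have hflat : ∀ i, Module.Flat A (U.P.X i) := fun i => by
    have := (U.fin i).2
    infer_instance
  refine (FlatCxLib.preservesEpi_iff_flat U.P 1 0 (by omega) hflat).1 ⟨fun {M N} g hg => ?_⟩
  exact ⟨fun a b _ => (U.pos N 1 one_pos).eq_of_src a b⟩

section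

variable {X Y : Scheme.{u}} (f : X ⟶ Y) [IsProper f] [IsLocallyNoetherian Y]
  [HasInjectiveResolutions X.Modules] (F : X.Modules)

/-- Flat neighbouring cokernels give a free neighbourhood. -/
theorem exists_free_nhd_rpush (hF : Coh.IsCoh F) {W : Y.Opens} (hW : IsAffineOpen W)
    {U : Univ (overW f hW) (FW f F W)} (hU : U.BC (overW f hW)) (p : ℕ)
    (h1 : Module.Flat Γ(Y, W) (FlatCxLib.W U.P (-(p : ℤ))))
    (h2 : Module.Flat Γ(Y, W) (FlatCxLib.W U.P (-(p : ℤ) - 1))) (x : PrimeSpectrum Γ(Y, W)) :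
    ∃ V : Y.Opens, hW.fromSpec x ∈ V ∧ Nonempty (((Coh.Rpush f p).obj F).restrict V.ι ≅
      FlatMod.freeMod (↑V) (CohIII.fiberRank f F p (hW.fromSpec x))) := by
  have := isNoetherianRing_sections hW
  have : Coh.IsQCoh F := hF.1
  have := RpushLib.isQCoh_Rpush f F p
  obtain ⟨hfin, hproj, hr⟩ := homology_projective_of_flat_W U.P U.fin (-(p : ℤ)) (-(p : ℤ) - 1) (by omega) h1 h2
  obtain ⟨e⟩ := nonempty_sections_equiv f F hW hF U p
  have : Module.Finite Γ(Y, W) Γ((Coh.Rpush f p).obj F, W) := Module.Finite.equiv e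
  have : Module.Projective Γ(Y, W) Γ((Coh.Rpush f p).obj F, W) := Module.Projective.of_equiv e
  refine exists_free_nhd hW _ x ?_
  rw [(fibre_spec f F hW hU p x).1, ← hr x]
  exact (fibreRank_congr e x).symm

/-- Vanishing fibre cohomology gives a vanishing neighbourhood. -/
theorem exists_zero_nhd_rpush (hF : Coh.IsCoh F) (hfl : FlatMod.IsFlatOver f F) (y : Y) (p : ℕ)
    (h : Subsingleton (CohIII.fiberH f F y p)) :
    ∃ V : Y.Opens, y ∈ V ∧ IsZero (((Coh.Rpush f p).obj F).restrict V.ι) := by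
  obtain ⟨W, hW, x, rfl⟩ := exists_point y
  have := isNoetherianRing_sections hW
  have : Coh.IsQCoh F := hF.1
  have := RpushLib.isQCoh_Rpush f F p
  obtain ⟨U, hU⟩ := exists_univ_overW f F hW hF hfl
  obtain ⟨e⟩ := nonempty_sections_equiv f F hW hF U p
  have := finite_homology U.P U.fin (-(p : ℤ))
  have : Module.Finite Γ(Y, W) Γ((Coh.Rpush f p).obj F, W) := Module.Finite.equiv e
  refine exists_zero_nhd hW _ x ?_
  rw [← e.support_eq]
  exact notMem_support_of_dRank_eq_zero U.P U.fin _ x ((fibre_spec f F hW hU p x).2.1 h)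

/-- `R^0 f_*` is `f_*`. -/
noncomputable def rpushZero : (Coh.Rpush f 0).obj F ≅ (Coh.push f).obj F :=
  have : PreservesFiniteLimits (Coh.push f) :=
    have := (Scheme.Modules.pullbackPushforwardAdjunction f).rightAdjoint_preservesLimits
    inferInstance
  (Functor.rightDerivedZeroIsoSelf (Coh.push f)).app F

end

end CohBCLib
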