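import Groth.Agent.FlatCxLib.TFun
import Groth.Agent.FlatCxLib.Homology
import Mathlib.LinearAlgebra.Contraction
import Mathlib.LinearAlgebra.Dual.Lemmas
import Mathlib.RingTheory.Flat.EquationalCriterion
import Mathlib.CategoryTheory.Linear.Yoneda
import Mathlib.Algebra.Category.ModuleCat.Products
import Mathlib.CategoryTheory.Limits.Preserves.Shapes.Products

/-! Corepresentability and products for `M ↦ H_p(P ⊗ M)`, with `P` finite projective. -/

set_option autoImplicit false

universe u

open CategoryTheory CategoryTheory.Limits TensorProduct Opposite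

namespace CohBCLib

variable {A : Type u} [CommRing A]

section Pairing

variable (W M : Type u) [AddCommGroup W] [Module A W] [AddCommGroup M] [Module A M]

/-- `W ⊗ M → Hom(W^∨, M)`. -/
noncomputable def pairHom : W ⊗[A] M →ₗ[A] (Module.Dual A W →ₗ[A] M) :=
  (dualTensorHom A (Module.Dual A W) M).comp ((Module.Dual.eval A W).rTensor M)

theorem pairHom_tmul (w : W) (m : M) (φ : Module.Dual A W) : pairHom W M (w ⊗ₜ m) φ = φ w • m := rfl

theorem pairHom_bijective [Module.Finite A W] [Module.Projective A W] :
    Function.Bijective (pairHom (A := A) W M) :=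
  dualTensorHom_bijective.comp
    ((LinearEquiv.rTensor M (Module.evalEquiv A W)).bijective)

variable {W M}

theorem pairHom_map {V : Type u} [AddCommGroup V] [Module A V] (g : W →ₗ[A] V) (x : W ⊗[A] M)
    (φ : Module.Dual A V) : pairHom V M (g.rTensor M x) φ = pairHom W M x (g.dualMap φ) := by
  induction x using TensorProduct.induction_on with
  | zero => simp
  | tmul w m => rfl
  | add x y hx hy => simp [hx, hy]

theorem pairHom_natural {N : Type u} [AddCommGroup N] [Module A N] (g : M →ₗ[A] N) (x : W ⊗[A] M)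
    (φ : Module.Dual A W) : pairHom W N (g.lTensor W x) φ = g (pairHom W M x φ) := by
  induction x using TensorProduct.induction_on with
  | zero => simp
  | tmul w m => rw [LinearMap.lTensor_tmul, pairHom_tmul, pairHom_tmul, map_smul]
  | add x y hx hy => simp [hx, hy]

end Pairing

variable (P : ChainComplex (ModuleCat.{u} A) ℤ)

open FlatCxLib (W)

/-- The map `W_p → P_{p-1}`. -/
noncomputable def dW (p : ℤ) : W P p →ₗ[A] P.X (p - 1) :=
  (LinearMap.range (P.d (p + 1) p).hom).liftQ (P.d p (p - 1)).hom (by
    rintro _ ⟨y, rfl⟩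
    exact LinearMap.congr_fun (FlatCxLib.d_comp_d_hom P (p + 1) p (p - 1)) y)

/-- The corepresenting module. -/
abbrev Qc (p : ℤ) : Type u := Module.Dual A (W P p) ⧸ LinearMap.range (dW P p).dualMap

variable (p : ℤ) (M : ModuleCat.{u} A)

/-- The cycles of `P ⊗ M`. -/
abbrev CycT : Submodule A ((P.X p : Type u) ⊗[A] M) := LinearMap.ker ((P.d p (p - 1)).hom.rTensor M)

/-- The boundaries, among cycles. -/
abbrev BndT : Submodule A (CycT P p M) :=
  (LinearMap.range ((P.d (p + 1) p).hom.rTensor M)).comap (CycT P p M).subtype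

theorem dW_mkQ : (dW P p).comp (LinearMap.range (P.d (p + 1) p).hom).mkQ = (P.d p (p - 1)).hom := rfl

/-- From cycles of `P ⊗ M` to maps out of `Qc`. -/
noncomputable def corepCyc : CycT P p M →ₗ[A] (Qc P p →ₗ[A] M) where
  toFun x := (LinearMap.range (dW P p).dualMap).liftQ
    (pairHom (W P p) M ((LinearMap.range (P.d (p + 1) p).hom).mkQ.rTensor M x.1)) (by
      rintro _ ⟨φ, rfl⟩
      rw [LinearMap.mem_ker, ← pairHom_map, ← LinearMap.comp_apply (f := (dW P p).rTensor M),
        ← LinearMap.rTensor_comp, dW_mkQ]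
      have h : (P.d p (p - 1)).hom.rTensor M x.1 = 0 := x.2
      rw [h, map_zero, LinearMap.zero_apply])
  map_add' x y := by
    refine Submodule.linearMap_qext _ (LinearMap.ext fun φ => ?_)
    simp
  map_smul' a x := by
    refine Submodule.linearMap_qext _ (LinearMap.ext fun φ => ?_)
    simp

theorem corepCyc_mk (x : CycT P p M) (φ : Module.Dual A (W P p)) :
    corepCyc P p M x (Submodule.Quotient.mk φ) =
      pairHom (W P p) M ((LinearMap.range (P.d (p + 1) p).hom).mkQ.rTensor M x.1) φ := rfl

/-- The class of a cycle. -/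
noncomputable def clsT : CycT P p M →ₗ[A] (CohIII.T P p M : Type u) :=
  FlatCxLib.hcls (CohIII.tensorObj P M) p (p - 1) (by simp)

theorem clsT_surjective : Function.Surjective (clsT P p M) :=
  FlatCxLib.hcls_surjective (CohIII.tensorObj P M) p (p - 1) (by simp)

theorem clsT_eq_zero_iff (x : CycT P p M) :
    clsT P p M x = 0 ↔ x.1 ∈ LinearMap.range ((P.d (p + 1) p).hom.rTensor M) :=
  FlatCxLib.hcls_eq_zero_iff (CohIII.tensorObj P M) p (p - 1) (by simp) (p + 1) (by simp) x

variable [Module.Finite A (W P p)] [Module.Projective A (W P p)]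

theorem corepCyc_eq_zero_iff (x : CycT P p M) :
    corepCyc P p M x = 0 ↔ x.1 ∈ LinearMap.range ((P.d (p + 1) p).hom.rTensor M) := by
  refine Iff.trans ?_ (FlatCxLib.mkQ_eq_zero_iff (P.d (p + 1) p).hom x.1)
  constructor
  · intro h
    apply (pairHom_bijective (W P p) M).1
    rw [map_zero]
    exact LinearMap.ext fun φ => LinearMap.congr_fun h (Submodule.Quotient.mk φ)
  · intro h
    refine Submodule.linearMap_qext _ (LinearMap.ext fun φ => ?_)
    rw [LinearMap.comp_apply, Submodule.mkQ_apply, corepCyc_mk, h, map_zero]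
    rfl

variable [Module.Finite A (P.X (p - 1))] [Module.Projective A (P.X (p - 1))]

theorem corepCyc_surjective : Function.Surjective (corepCyc P p M) := by
  intro ψ
  obtain ⟨w, hw⟩ := (pairHom_bijective (W P p) M).2 (ψ.comp (Submodule.mkQ _))
  obtain ⟨x, rfl⟩ := LinearMap.rTensor_surjective M (Submodule.mkQ_surjective _) w
  have hx : (P.d p (p - 1)).hom.rTensor M x = 0 := by
    apply (pairHom_bijective (P.X (p - 1)) M).1
    rw [map_zero]
    refine LinearMap.ext fun φ => ?_
    rw [← dW_mkQ, LinearMap.rTensor_comp, LinearMap.comp_apply, pairHom_map, hw, LinearMap.comp_apply,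
      Submodule.mkQ_apply, (Submodule.Quotient.mk_eq_zero _).2 (LinearMap.mem_range_self _ φ), map_zero]
    rfl
  refine ⟨⟨x, hx⟩, Submodule.linearMap_qext _ (LinearMap.ext fun φ => ?_)⟩
  exact LinearMap.congr_fun hw φ

/-- `H_p(P ⊗ M) → Hom(Qc, M)`. -/
noncomputable def corepEquiv : (CohIII.T P p M : Type u) ≃ₗ[A] (Qc P p →ₗ[A] M) :=
  ((LinearMap.quotKerEquivOfSurjective (clsT P p M) (clsT_surjective P p M)).symm.trans
    (Submodule.quotEquivOfEq _ _ (by
      ext x
      rw [LinearMap.mem_ker, LinearMap.mem_ker, clsT_eq_zero_iff, corepCyc_eq_zero_iff]))).trans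
    (LinearMap.quotKerEquivOfSurjective (corepCyc P p M) (corepCyc_surjective P p M))

theorem corepEquiv_clsT (x : CycT P p M) : corepEquiv P p M (clsT P p M x) = corepCyc P p M x := by
  have h : (LinearMap.quotKerEquivOfSurjective (clsT P p M) (clsT_surjective P p M)).symm (clsT P p M x) =
      Submodule.Quotient.mk x := by
    rw [LinearEquiv.symm_apply_eq]
    rfl
  simp only [corepEquiv, LinearEquiv.trans_apply, h]
  rfl

theorem corepCyc_natural {N : ModuleCat.{u} A} (g : M ⟶ N) (x : CycT P p M) (y : CycT P p N)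
    (hy : y.1 = g.hom.lTensor (P.X p) x.1) : corepCyc P p N y = g.hom.comp (corepCyc P p M x) := by
  refine Submodule.linearMap_qext _ (LinearMap.ext fun φ => ?_)
  rw [LinearMap.comp_apply, Submodule.mkQ_apply, corepCyc_mk, LinearMap.comp_apply, LinearMap.comp_apply,
    Submodule.mkQ_apply, corepCyc_mk, hy, FlatCxLib.rTensor_lTensor, pairHom_natural]

/-- Corepresentability. -/
noncomputable def corepIso :
    CohIII.TFun P p ≅ (linearCoyoneda A (ModuleCat.{u} A)).obj (op (ModuleCat.of A (Qc P p))) :=
  NatIso.ofComponents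
    (fun M => ((corepEquiv P p M).trans
      (ModuleCat.homLinearEquiv (S := A) (M := ModuleCat.of A (Qc P p)) (N := M)).symm).toModuleIso)
    fun {M N} g => by
      refine ModuleCat.hom_ext (LinearMap.ext fun t => ?_)
      obtain ⟨x, rfl⟩ := clsT_surjective P p M t
      apply ModuleCat.hom_ext
      change corepEquiv P p N (HomologicalComplex.homologyMap (CohIII.tensorMap P g) p (clsT P p M x)) =
        g.hom.comp (corepEquiv P p M (clsT P p M x))
      have h : HomologicalComplex.homologyMap (CohIII.tensorMap P g) p (clsT P p M x) =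
          clsT P p N ⟨g.hom.lTensor (P.X p) x.1, FlatCxLib.map_mem_ker p (p - 1) (CohIII.tensorMap P g) x⟩ :=
        FlatCxLib.homologyMap_hcls p (p - 1) (by simp) (CohIII.tensorMap P g) x
      rw [h, corepEquiv_clsT, corepEquiv_clsT]
      exact corepCyc_natural P p M g x _ rfl

omit [Module.Finite A (P.X (p - 1))] [Module.Projective A (P.X (p - 1))] in
theorem finite_Qc : Module.Finite A (Qc P p) := Module.Finite.quotient A _

section Flatness

variable [IsNoetherianRing A]

omit [Module.Finite A (W P p)] [Module.Projective A (W P p)] [Module.Finite A (P.X (p - 1))]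
  [Module.Projective A (P.X (p - 1))]

theorem projective_W (hfin : Module.Finite A (P.X p)) (h : Module.Flat A (W P p)) :
    Module.Projective A (W P p) := by
  have := FlatCxLib.finite_W P hfin
  have := Module.finitePresentation_of_finite A (W P p)
  exact Module.Flat.projective_of_finitePresentation

/-- `T_p` is corepresentable as soon as `W_p` is flat. -/
theorem exists_corep (hP : ∀ i, Module.Finite A (P.X i) ∧ Module.Free A (P.X i)) (h : Module.Flat A (W P p)) :
    ∃ Q : ModuleCat.{u} A, Module.Finite A Q ∧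
      Nonempty (CohIII.TFun P p ≅ (linearCoyoneda A (ModuleCat.{u} A)).obj (op Q)) := by
  have := FlatCxLib.finite_W P (hP p).1
  have := projective_W P p (hP p).1 h
  have := (hP (p - 1)).1
  have := (hP (p - 1)).2
  exact ⟨ModuleCat.of A (Qc P p), finite_Qc P p, ⟨corepIso P p⟩⟩

end Flatness

omit [Module.Finite A (W P p)] [Module.Projective A (W P p)] [Module.Finite A (P.X (p - 1))]
  [Module.Projective A (P.X (p - 1))]

section Products

theorem pi_ext {F : Type u} [AddCommGroup F] [Module A F] [Module.Free A F] [Module.Finite A F]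
    {J : Type u} (N : J → Type u) [∀ j, AddCommGroup (N j)] [∀ j, Module A (N j)]
    (x : F ⊗[A] (∀ j, N j)) (h : ∀ j, (LinearMap.proj j).lTensor F x = (0 : F ⊗[A] N j)) : x = 0 := by
  classical
  let b := Module.Free.chooseBasis A F
  obtain ⟨c, rfl⟩ := TensorProduct.eq_repr_basis_left b x
  have hc : c = 0 := by
    ext i j
    have hj := h j
    rw [map_finsuppSum] at hj
    let c' : Module.Free.ChooseBasisIndex A F →₀ N j := c.mapRange (fun n => n j) rfl
    have hz : (c'.sum fun i n => b i ⊗ₜ[A] n) = 0 := by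
      rw [Finsupp.sum_mapRange_index (fun i => TensorProduct.tmul_zero _ _)]
      refine Eq.trans ?_ hj
      exact Finsupp.sum_congr fun i _ => rfl
    have h0 := TensorProduct.sum_tmul_basis_left_injective (N := N j) b (a₁ := c') (a₂ := 0)
      (hz.trans (map_zero (Finsupp.lsum A fun i => (TensorProduct.mk A F (N j)) (b i))).symm)
    exact congrArg (fun d => d i) h0
  simp [hc]

theorem pi_exists {F : Type u} [AddCommGroup F] [Module A F] [Module.Free A F] [Module.Finite A F]
    {J : Type u} (N : J → Type u) [∀ j, AddCommGroup (N j)] [∀ j, Module A (N j)]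
    (y : ∀ j, F ⊗[A] N j) : ∃ x : F ⊗[A] (∀ j, N j), ∀ j, (LinearMap.proj j).lTensor F x = y j := by
  classical
  let b := Module.Free.chooseBasis A F
  choose c hc using fun j => TensorProduct.eq_repr_basis_left b (y j)
  refine ⟨∑ i, b i ⊗ₜ[A] (fun j => c j i), fun j => ?_⟩
  rw [map_sum]
  refine Eq.trans ?_ (hc j)
  rw [Finsupp.sum_fintype _ _ (fun i => TensorProduct.tmul_zero _ _)]
  exact Finset.sum_congr rfl fun i _ => rfl

variable (hP : ∀ i, Module.Finite A (P.X i) ∧ Module.Free A (P.X i)) {J : Type u} (M' : J → ModuleCat.{u} A)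

/-- The projections. -/
noncomputable def piProj (j : J) : ModuleCat.of A (∀ j, (M' j : Type u)) ⟶ M' j :=
  ModuleCat.ofHom (LinearMap.proj j)

theorem map_clsT {N M₀ : ModuleCat.{u} A} (g : M₀ ⟶ N) (x : CycT P p M₀) :
    ((CohIII.TFun P p).map g).hom (clsT P p M₀ x) =
      clsT P p N ⟨g.hom.lTensor (P.X p) x.1, FlatCxLib.map_mem_ker p (p - 1) (CohIII.tensorMap P g) x⟩ :=
  FlatCxLib.homologyMap_hcls p (p - 1) (by simp) (CohIII.tensorMap P g) x

include hP in
theorem bijective_T_pi : Function.Bijective
    (fun (t : (CohIII.TFun P p).obj (ModuleCat.of A (∀ j, (M' j : Type u)))) (j : J) =>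
      ((CohIII.TFun P p).map (piProj M' j)).hom t) := by
  have := (hP p).1
  have := (hP p).2
  have := (hP (p + 1)).1
  have := (hP (p + 1)).2
  have := (hP (p - 1)).1
  have := (hP (p - 1)).2
  constructor
  · intro s t hst
    obtain ⟨x, rfl⟩ := clsT_surjective P p _ s
    obtain ⟨y, rfl⟩ := clsT_surjective P p _ t
    refine sub_eq_zero.1 ((map_sub (clsT P p _) x y).symm.trans ((clsT_eq_zero_iff P p _ _).2 ?_))
    have hj : ∀ j, ∃ z, (P.d (p + 1) p).hom.rTensor (M' j) z =
        (LinearMap.proj j).lTensor (P.X p) (x - y).1 := fun j => by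
      have h : ((CohIII.TFun P p).map (piProj M' j)).hom (clsT P p _ (x - y)) = 0 := by
        refine (congrArg _ (map_sub (clsT P p _) x y)).trans ((map_sub _ _ _).trans (sub_eq_zero.2 ?_))
        exact congrFun hst j
      exact (clsT_eq_zero_iff P p (M' j) _).1 ((map_clsT P p (piProj M' j) (x - y)).symm.trans h)
    choose z hz using hj
    obtain ⟨w, hw⟩ := pi_exists (fun j => (M' j : Type u)) z
    refine ⟨w, sub_eq_zero.1 (pi_ext (fun j => (M' j : Type u)) _ fun j => ?_)⟩
    rw [map_sub, sub_eq_zero, ← FlatCxLib.rTensor_lTensor]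
    exact (congrArg _ (hw j)).trans (hz j)
  · intro t
    choose x hx using fun j => clsT_surjective P p (M' j) (t j)
    obtain ⟨w, hw⟩ := pi_exists (fun j => (M' j : Type u)) fun j => (x j).1
    refine ⟨clsT P p _ ⟨w, pi_ext (fun j => (M' j : Type u)) _ fun j => ?_⟩, funext fun j => ?_⟩
    · rw [← FlatCxLib.rTensor_lTensor, hw j]
      exact LinearMap.mem_ker.1 (x j).2
    · refine (map_clsT P p (piProj M' j) _).trans ?_
      exact (congrArg (clsT P p (M' j)) (Subtype.ext (hw j))).trans (hx j)

include hP in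
theorem preservesProducts_TFun (J : Type u) : PreservesLimitsOfShape (Discrete J) (CohIII.TFun P p) := by
  refine ⟨fun {K} => ?_⟩
  let M' : J → ModuleCat.{u} A := fun j => K.obj ⟨j⟩
  suffices h : PreservesLimit (Discrete.functor M') (CohIII.TFun P p) from
    haveI := h
    preservesLimit_of_iso_diagram (K₁ := Discrete.functor M') _ Discrete.natIsoFunctor.symm
  let Z := ModuleCat.of A (∀ j, (M' j : Type u))
  have hc : IsLimit (ModuleCat.productCone M') := ModuleCat.productConeIsLimit M'
  refine preservesLimit_of_preserves_limit_cone hc ?_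
  refine (isLimitMapConeFanMkEquiv (CohIII.TFun P p) M' (fun j => piProj M' j)).symm ?_
  let G : J → ModuleCat.{u} A := fun j => (CohIII.TFun P p).obj (M' j)
  refine IsLimit.ofIsoLimit (ModuleCat.productConeIsLimit G)
    (Fan.ext (LinearEquiv.ofBijective (LinearMap.pi fun j => ((CohIII.TFun P p).map (piProj M' j)).hom)
      (bijective_T_pi P p hP M')).toModuleIso.symm fun j => ?_)
  refine (Iso.eq_inv_comp _).2 ?_
  rfl

end Products

end CohBCLib
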