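import Groth.Agent.CohBCLib.Univ
import Groth.Agent.CohBCLib.Corep

/-! Exchange properties read on the universal complex. -/

set_option autoImplicit false
set_option maxHeartbeats 1000000

universe u

open CategoryTheory CategoryTheory.Limits AlgebraicGeometry TopologicalSpace Opposite
open FlatCxLib (W)

namespace CohBCLib

variable {A : Type u} [CommRing A]

theorem preservesEpi_forget_iff {C : Type*} [Category* C] (G : C ⥤ ModuleCat.{u} A) :
    (G ⋙ forget₂ (ModuleCat.{u} A) AddCommGrpCat.{u}).PreservesEpimorphisms ↔ G.PreservesEpimorphisms := by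
  refine ⟨fun h => ⟨fun g hg => ?_⟩, fun h => ⟨fun g hg => ?_⟩⟩
  · exact (ModuleCat.epi_iff_surjective _).2
      ((AddCommGrpCat.epi_iff_surjective _).1 (h.preserves g) : _)
  · exact (AddCommGrpCat.epi_iff_surjective _).2 ((ModuleCat.epi_iff_surjective _).1 (h.preserves g) : _)

theorem preservesMono_forget_iff {C : Type*} [Category* C] (G : C ⥤ ModuleCat.{u} A) :
    (G ⋙ forget₂ (ModuleCat.{u} A) AddCommGrpCat.{u}).PreservesMonomorphisms ↔ G.PreservesMonomorphisms := by
  refine ⟨fun h => ⟨fun g hg => ?_⟩, fun h => ⟨fun g hg => ?_⟩⟩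
  · exact (ModuleCat.mono_iff_injective _).2
      ((AddCommGrpCat.mono_iff_injective _).1 (h.preserves g) : _)
  · exact (AddCommGrpCat.mono_iff_injective _).2 ((ModuleCat.mono_iff_injective _).1 (h.preserves g) : _)

theorem preservesMono_coyoneda (Q : ModuleCat.{u} A) :
    ((linearCoyoneda A (ModuleCat.{u} A)).obj (op Q)).PreservesMonomorphisms :=
  ⟨fun g hg => (ModuleCat.mono_iff_injective _).2 fun _ _ h => (cancel_mono g).1 h⟩

variable {X : Scheme.{u}} [X.Over (Spec (CommRingCat.of A))] {F : X.Modules}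

/-- `T^p` on underlying groups. -/
noncomputable def abIso (U : Univ (X ↘ Spec (CommRingCat.of A)) F) (p : ℕ) :
    CohIII.tensorAFunctor A F ⋙ CohIII.HAb X p ≅
      CohIII.TFun U.P (-(p : ℤ)) ⋙ forget₂ (ModuleCat.{u} A) AddCommGrpCat.{u} :=
  (Functor.isoWhiskerLeft (tA (X ↘ Spec (CommRingCat.of A)) F) (HAForget (X ↘ Spec (CommRingCat.of A)) p)).symm ≪≫
    Functor.isoWhiskerRight (U.iso p).symm (forget₂ (ModuleCat.{u} A) AddCommGrpCat.{u})

theorem preservesEpi_iff (U : Univ (X ↘ Spec (CommRingCat.of A)) F) (p : ℕ) :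
    (CohIII.tensorAFunctor A F ⋙ CohIII.HAb X p).PreservesEpimorphisms ↔
      Module.Flat A (W U.P (-(p : ℤ) - 1)) := by
  have hflat : ∀ i, Module.Flat A (U.P.X i) := fun i => by
    have := (U.fin i).2
    infer_instance
  rw [← FlatCxLib.preservesEpi_iff_flat U.P (-(p : ℤ)) (-(p : ℤ) - 1) (by omega) hflat,
    ← preservesEpi_forget_iff]
  exact ⟨fun h => Functor.preservesEpimorphisms.of_iso (abIso U p), fun h =>
    Functor.preservesEpimorphisms.of_iso (abIso U p).symm⟩

theorem preservesMono_iff (U : Univ (X ↘ Spec (CommRingCat.of A)) F) (p : ℕ) :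
    (CohIII.tensorAFunctor A F ⋙ CohIII.HAb X p).PreservesMonomorphisms ↔
      Module.Flat A (W U.P (-(p : ℤ))) := by
  have hflat : ∀ i, Module.Flat A (U.P.X i) := fun i => by
    have := (U.fin i).2
    infer_instance
  rw [← FlatCxLib.preservesMono_iff_flat U.P (-(p : ℤ)) hflat, ← preservesMono_forget_iff]
  exact ⟨fun h => Functor.preservesMonomorphisms.of_iso (abIso U p), fun h =>
    Functor.preservesMonomorphisms.of_iso (abIso U p).symm⟩

/-- `W_0` is flat. -/
theorem flat_W_zero (U : Univ (X ↘ Spec (CommRingCat.of A)) F) : Module.Flat A (W U.P 0) := by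
  have hflat : ∀ i, Module.Flat A (U.P.X i) := fun i => by
    have := (U.fin i).2
    infer_instance
  refine (FlatCxLib.preservesEpi_iff_flat U.P 1 0 (by omega) hflat).1 ⟨fun {M N} g hg => ?_⟩
  exact ⟨fun a b _ => (U.pos N 1 one_pos).eq_of_src a b⟩

/-- `H^0` is global sections. -/
noncomputable def gsEquiv (G : X.Modules) :
    ((HA (X ↘ Spec (CommRingCat.of A)) 0).obj G : Type u) ≃ₗ[A] ((CohIII.globalSectionsA A).obj G : Type u) :=
  letI := Module.compHom (Coh.HH X G 0) (Coh.toGlobal (X ↘ Spec (CommRingCat.of A)))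
  let e : Coh.HH X G 0 ≃+ ((CohIII.globalSectionsA A).obj G : Type u) :=
    (QCohLib.hEquiv (Coh.toAb G) 0).trans QCohLib.h0
  { e with
    map_smul' := fun a x => by
      let r := Coh.toGlobal (X ↘ Spec (CommRingCat.of A)) a
      refine (congrArg QCohLib.h0 (QCohLib.hEquiv_map (Coh.smulAb G r) 0 x)).trans ?_
      refine (QCohLib.h0_comp _ _).trans ((Coh.smulAb_app G r (op ⊤) _).trans ?_)
      refine congrArg (fun t : Γ(X, ⊤) => t • (show Γ(G, ⊤) from QCohLib.h0 (QCohLib.hEquiv (Coh.toAb G) 0 x))) ?_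
      change X.presheaf.map (homOfLE le_top).op r = _
      exact congr($((congrArg X.presheaf.map (Subsingleton.elim _ (𝟙 (op (⊤ : X.Opens))))).trans
        (X.presheaf.map_id _)) r) }

/-- `H^0` is global sections, naturally. -/
noncomputable def gsIso : HA (X ↘ Spec (CommRingCat.of A)) 0 ≅ CohIII.globalSectionsA A :=
  NatIso.ofComponents (fun G => (gsEquiv G).toModuleIso) fun {G G'} g => by
    refine ModuleCat.hom_ext (LinearMap.ext fun x => ?_)
    change QCohLib.h0 (QCohLib.hEquiv (Coh.toAb G') 0 (Sheaf.H.map ((QCohLib.toAbF X).map g) 0 x)) =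
      g.app ⊤ (QCohLib.h0 (QCohLib.hEquiv (Coh.toAb G) 0 x))
    rw [QCohLib.hEquiv_map, QCohLib.h0_comp]
    rfl

/-- Global sections of `F ⊗ M`. -/
noncomputable def gsTensorIso (U : Univ (X ↘ Spec (CommRingCat.of A)) F) :
    CohIII.tensorAFunctor A F ⋙ CohIII.globalSectionsA A ≅ CohIII.TFun U.P 0 :=
  (Functor.isoWhiskerLeft (tA (X ↘ Spec (CommRingCat.of A)) F) gsIso).symm ≪≫ (U.iso 0).symm

theorem exists_corep_globalSections [IsNoetherianRing A] (U : Univ (X ↘ Spec (CommRingCat.of A)) F) :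
    ∃ Q : ModuleCat.{u} A, Module.Finite A Q ∧
      Nonempty (CohIII.tensorAFunctor A F ⋙ CohIII.globalSectionsA A ≅
        (linearCoyoneda A (ModuleCat.{u} A)).obj (op Q)) := by
  obtain ⟨Q, hQ, ⟨e⟩⟩ := exists_corep U.P 0 U.fin (flat_W_zero U)
  exact ⟨Q, hQ, ⟨gsTensorIso U ≪≫ e⟩⟩

end CohBCLib
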