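import Groth.Agent.CohBCLib.UnivBC
import Groth.Agent.CohBCLib.Exchange
import Groth.Agent.FlatCxLib.Rank
import Groth.Agent.SemiRankLib.Reduced
import Groth.Agent.KFlatLib.CxFlat

/-! Fibre ranks and flatness of the cokernels in the universal complex. -/

set_option autoImplicit false
set_option maxHeartbeats 1000000

universe u

open CategoryTheory CategoryTheory.Limits TensorProduct
open FlatCxLib (W fibreRank)

namespace CohBCLib

variable {A : Type u} [CommRing A] [IsNoetherianRing A] (P : ChainComplex (ModuleCat.{u} A) ℤ)
  (hP : ∀ i, Module.Finite A (P.X i) ∧ Module.Free A (P.X i))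

omit [IsNoetherianRing A] in
theorem fibreRank_le_of_le (M : Type u) [AddCommGroup M] [Module A M] [Module.Finite A M]
    {x y : PrimeSpectrum A} (h : x ≤ y) : fibreRank M x ≤ fibreRank M y :=
  by
  have hs : {z : PrimeSpectrum A | fibreRank M z ≤ fibreRank M y} ∈ nhds x :=
    ((PrimeSpectrum.le_iff_specializes x y).1 h) (FlatCxLib.eventually_fibreRank_le M y)
  exact mem_of_mem_nhds (s := {z : PrimeSpectrum A | fibreRank M z ≤ fibreRank M y}) hs

omit [IsNoetherianRing A] in
include hP in
theorem fibreRank_X_eq {x y : PrimeSpectrum A} (h : x ≤ y) (i : ℤ) :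
    fibreRank (P.X i) x = fibreRank (P.X i) y := by
  have := (hP i).1
  have := (hP i).2
  rw [FlatCxLib.fibreRank_eq_rankAtStalk, FlatCxLib.fibreRank_eq_rankAtStalk]
  exact Module.rankAtStalk_eq_of_le_of_finite_of_flat (M := P.X i) h

include hP in
/-- Over a reduced ring, constant rank makes the neighbouring cokernels projective. -/
theorem flat_W_of_dRank_const [_root_.IsReduced A] (p q : ℤ) (hqp : q + 1 = p)
    (h : ∀ x y : PrimeSpectrum A, x ≤ y → CohIII.dRank P p x = CohIII.dRank P p y) :
    Module.Flat A (W P p) ∧ Module.Flat A (W P q) := by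
  have hfin : ∀ i, Module.Finite A (P.X i) := fun i => (hP i).1
  have := FlatCxLib.finite_W P (hfin p)
  have := FlatCxLib.finite_W P (hfin q)
  have key : ∀ x y : PrimeSpectrum A, x ≤ y →
      fibreRank (W P p) x = fibreRank (W P p) y ∧ fibreRank (W P q) x = fibreRank (W P q) y := fun x y hxy => by
    have h1 := FlatCxLib.dRank_add P hfin p q hqp x
    have h2 := FlatCxLib.dRank_add P hfin p q hqp y
    have h3 := fibreRank_le_of_le (W P p) hxy
    have h4 := fibreRank_le_of_le (W P q) hxy
    rw [h x y hxy, fibreRank_X_eq P hP hxy q] at h1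
    omega
  have := Module.finitePresentation_of_finite A (W P p)
  have := Module.finitePresentation_of_finite A (W P q)
  have := SemiRankLib.projective_of_fibreRank_le_const (A := A) (W P p) fun x y hxy => (key x y hxy).1
  have := SemiRankLib.projective_of_fibreRank_le_const (A := A) (W P q) fun x y hxy => (key x y hxy).2
  exact ⟨inferInstance, inferInstance⟩

/-- Homology as the kernel on the cokernel. -/
noncomputable def hKer (p : ℤ) : (P.homology p : Type u) ≃ₗ[A] LinearMap.ker (dW P p) := by
  let F : LinearMap.ker (P.d p (p - 1)).hom →ₗ[A] LinearMap.ker (dW P p) :=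
    ((LinearMap.range (P.d (p + 1) p).hom).mkQ.comp (Submodule.subtype _)).codRestrict _ fun x => x.2
  refine (FlatCxLib.homologyEquiv P p (p - 1) (by simp) (p + 1) (by simp)).symm.trans
    (((Submodule.quotEquivOfEq _ (LinearMap.ker F) ?_)).trans (F.quotKerEquivOfSurjective ?_))
  · ext x
    simp [F]
  · rintro ⟨w, hw⟩
    obtain ⟨x, rfl⟩ := Submodule.mkQ_surjective _ w
    exact ⟨⟨x, hw⟩, Subtype.ext rfl⟩

omit [IsNoetherianRing A] in
theorem fibreRank_congr {M N : Type u} [AddCommGroup M] [Module A M] [AddCommGroup N] [Module A N]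
    (e : M ≃ₗ[A] N) (x : PrimeSpectrum A) : fibreRank M x = fibreRank N x :=
  (LinearEquiv.baseChange A x.asIdeal.ResidueField M N e).finrank_eq

omit [IsNoetherianRing A] in
theorem fibreRank_add {M N Q : Type u} [AddCommGroup M] [Module A M] [AddCommGroup N] [Module A N]
    [AddCommGroup Q] [Module A Q] [Module.Finite A N] [Module.Flat A Q] (f : M →ₗ[A] N) (g : N →ₗ[A] Q)
    (hf : Function.Injective f) (hfg : Function.Exact f g) (hg : Function.Surjective g)
    (x : PrimeSpectrum A) : fibreRank M x + fibreRank Q x = fibreRank N x := by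
  let K := x.asIdeal.ResidueField
  have h1 : Function.Injective (f.baseChange K) :=
    (LinearMap.lTensor_inj_iff_rTensor_inj (M := K) f).2
      (KFlatLib.rTensor_injective_of_flat_quotient f g hf hfg hg K)
  have h2 : LinearMap.range (f.baseChange K) = LinearMap.ker (g.baseChange K) := by
    ext z
    exact ((lTensor_exact K hfg hg) z).symm
  have h3 : Function.Surjective (g.baseChange K) := LinearMap.lTensor_surjective K hg
  have h4 := LinearMap.finrank_range_add_finrank_ker (g.baseChange K)
  rw [LinearMap.range_eq_top.2 h3, finrank_top, ← h2, LinearMap.finrank_range_of_inj h1] at h4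
  change Module.finrank K (K ⊗[A] M) + Module.finrank K (K ⊗[A] Q) = Module.finrank K (K ⊗[A] N)
  omega

include hP in
/-- Homology is projective of rank `d_p` when the neighbouring cokernels are flat. -/
theorem homology_projective_of_flat_W (p q : ℤ) (hqp : q + 1 = p) (h1 : Module.Flat A (W P p))
    (h2 : Module.Flat A (W P q)) :
    Module.Finite A (P.homology p) ∧ Module.Projective A (P.homology p) ∧
      ∀ x, fibreRank (P.homology p) x = CohIII.dRank P p x := by
  obtain rfl : q = p - 1 := by omega
  have hfin : ∀ i, Module.Finite A (P.X i) := fun i => (hP i).1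
  have := FlatCxLib.finite_W P (hfin p)
  have := FlatCxLib.finite_W P (hfin (p - 1))
  have := (hP (p - 1)).1
  have := (hP (p - 1)).2
  have := IsNoetherian.noetherian (R := A) (M := W P p)
  let I := LinearMap.range (dW P p)
  have hI : LinearMap.range (dW P p) = LinearMap.range (P.d (p - 1 + 1) (p - 1)).hom := by
    rw [dW, Submodule.range_liftQ, show p - 1 + 1 = p by omega]
  have hexI : Function.Exact I.subtype (LinearMap.range (P.d (p - 1 + 1) (p - 1)).hom).mkQ := by
    rw [LinearMap.exact_iff, Submodule.ker_mkQ, Submodule.range_subtype]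
    exact hI.symm
  have hIflat : Module.Flat A I :=
    KFlatLib.flat_kernel I.subtype _ I.subtype_injective hexI (Submodule.mkQ_surjective _)
  have hexH : Function.Exact (LinearMap.ker (dW P p)).subtype (dW P p).rangeRestrict := by
    rw [LinearMap.exact_iff, Submodule.range_subtype, LinearMap.ker_rangeRestrict]
  have hKflat : Module.Flat A (LinearMap.ker (dW P p)) :=
    KFlatLib.flat_kernel _ _ Subtype.val_injective hexH (LinearMap.surjective_rangeRestrict _)
  have : IsNoetherian A (W P p) := isNoetherian_of_isNoetherianRing_of_finite A _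
  have : Module.Finite A (LinearMap.ker (dW P p)) := Module.IsNoetherian.finite A _
  have := Module.finitePresentation_of_finite A (LinearMap.ker (dW P p))
  have : Module.Projective A (LinearMap.ker (dW P p)) := Module.Flat.projective_of_finitePresentation
  refine ⟨Module.Finite.equiv (hKer P p).symm, Module.Projective.of_equiv (hKer P p).symm, fun x => ?_⟩
  rw [fibreRank_congr (hKer P p) x]
  have e1 := fibreRank_add _ _ Subtype.val_injective hexH (LinearMap.surjective_rangeRestrict _) x
  have e2 := fibreRank_add I.subtype _ I.subtype_injective hexI (Submodule.mkQ_surjective _) x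
  have e3 := FlatCxLib.dRank_add P hfin p (p - 1) (by omega) x
  change fibreRank _ x + fibreRank I x = _ at e1
  unfold FlatCxLib.W at e1 e3 ⊢
  omega

end CohBCLib
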