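import Groth.Agent.CohBCLib.Rows
import Mathlib.RingTheory.LocalRing.Module
import Mathlib.RingTheory.Flat.Localization

/-! Vanishing fibre rank, and flatness from flat homology. -/

set_option autoImplicit false
set_option maxHeartbeats 1000000

universe u

open CategoryTheory CategoryTheory.Limits TensorProduct
open FlatCxLib (W fibreRank)

namespace CohBCLib

variable {A : Type u} [CommRing A] [IsNoetherianRing A] (P : ChainComplex (ModuleCat.{u} A) ℤ)
  (hP : ∀ i, Module.Finite A (P.X i) ∧ Module.Free A (P.X i))

omit [IsNoetherianRing A] in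
theorem range_dW (p : ℤ) :
    LinearMap.range (dW P p) = LinearMap.range (P.d (p - 1 + 1) (p - 1)).hom := by
  rw [dW, Submodule.range_liftQ, show p - 1 + 1 = p by omega]

include hP in
theorem injective_dW_residue (p : ℤ) (x : PrimeSpectrum A) (h : CohIII.dRank P p x = 0) :
    Function.Injective ((dW P p).baseChange x.asIdeal.ResidueField) := by
  let K := x.asIdeal.ResidueField
  have hfin : ∀ i, Module.Finite A (P.X i) := fun i => (hP i).1
  have := FlatCxLib.finite_W P (hfin p)
  have := hfin (p - 1)
  have e3 := FlatCxLib.dRank_add P hfin p (p - 1) (by omega) x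
  have hK := FlatCxLib.finrank_coker_baseChange (K := K) (dW P p)
  have hq : fibreRank (P.X (p - 1) ⧸ LinearMap.range (dW P p)) x = fibreRank (W P (p - 1)) x :=
    fibreRank_congr (Submodule.quotEquivOfEq _ _ (range_dW P p)) x
  have h4 := LinearMap.finrank_range_add_finrank_ker ((dW P p).baseChange K)
  have h5 := Submodule.finrank_quotient_add_finrank (LinearMap.range ((dW P p).baseChange K))
  change Module.finrank K (K ⊗[A] (P.X (p - 1) ⧸ LinearMap.range (dW P p))) = fibreRank (W P (p - 1)) x at hq
  change _ + Module.finrank K (K ⊗[A] P.X (p - 1)) = Module.finrank K (K ⊗[A] W P p) + _ at e3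
  have hker : Module.finrank K (LinearMap.ker ((dW P p).baseChange K)) = 0 := by omega
  rw [← LinearMap.ker_eq_bot]
  exact Submodule.finrank_eq_zero.1 hker

include hP in
/-- Locally at a point with `d_p = 0` the map `W_p → P_{p-1}` is a split injection. -/
theorem local_split (p : ℤ) (x : PrimeSpectrum A) (h : CohIII.dRank P p x = 0) :
    (∃ l, l ∘ₗ (dW P p).baseChange (Localization.AtPrime x.asIdeal) = LinearMap.id) ∧
      Module.Free (Localization.AtPrime x.asIdeal)
        (Localization.AtPrime x.asIdeal ⊗[A] W P (p - 1)) := by
  let S := Localization.AtPrime x.asIdeal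
  let K := x.asIdeal.ResidueField
  have := FlatCxLib.finite_W P (hP p).1
  have := (hP (p - 1)).1
  have := (hP (p - 1)).2
  let g : S ⊗[A] P.X (p - 1) →ₗ[S] S ⊗[A] W P (p - 1) :=
    ((LinearMap.range (P.d (p - 1 + 1) (p - 1)).hom).mkQ).baseChange S
  have hg : Function.Surjective g := LinearMap.lTensor_surjective S (Submodule.mkQ_surjective _)
  have hex0 : Function.Exact (dW P p) (LinearMap.range (P.d (p - 1 + 1) (p - 1)).hom).mkQ := by
    rw [LinearMap.exact_iff, Submodule.ker_mkQ, range_dW]
  have hex : Function.Exact ((dW P p).baseChange S) g := lTensor_exact S hex0 (Submodule.mkQ_surjective _)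
  have hinj : Function.Injective (((dW P p).baseChange S).lTensor (IsLocalRing.ResidueField S)) := by
    intro a b hab
    apply (TensorProduct.AlgebraTensorModule.cancelBaseChange A S K K (W P p)).injective
    apply injective_dW_residue P hP p x h
    have e := fun z : K ⊗[S] (S ⊗[A] W P p) => FlatCxLib.cancelBaseChange_baseChange S K (dW P p) z
    rw [← e, ← e]
    exact congrArg (TensorProduct.AlgebraTensorModule.cancelBaseChange A S K K (P.X (p - 1))) hab
  exact ⟨(IsLocalRing.split_injective_iff_lTensor_residueField_injective _).2 hinj,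
    Module.free_of_lTensor_residueField_injective _ g hg hex hinj⟩

include hP in
/-- `H_p` vanishes near a point with `d_p = 0`. -/
theorem notMem_support_of_dRank_eq_zero (p : ℤ) (x : PrimeSpectrum A) (h : CohIII.dRank P p x = 0) :
    x ∉ Module.support A (P.homology p) := by
  let S := Localization.AtPrime x.asIdeal
  let K := x.asIdeal.ResidueField
  have := FlatCxLib.finite_W P (hP p).1
  have : IsNoetherian A (W P p) := isNoetherian_of_isNoetherianRing_of_finite A _
  have : Module.Finite A (P.homology p) := Module.Finite.equiv (hKer P p).symm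
  obtain ⟨⟨l, hl⟩, -⟩ := local_split P hP p x h
  have hsub : Subsingleton (S ⊗[A] LinearMap.ker (dW P p)) := by
    refine subsingleton_of_forall_eq 0 fun v => ?_
    apply Module.Flat.lTensor_preserves_injective_linearMap (M := S) (LinearMap.ker (dW P p)).subtype
      Subtype.val_injective
    rw [map_zero]
    have h0 : (dW P p).baseChange S ((LinearMap.ker (dW P p)).subtype.lTensor S v) = 0 := by
      change (dW P p).lTensor S _ = 0
      rw [← LinearMap.comp_apply, ← LinearMap.lTensor_comp, LinearMap.comp_ker_subtype, LinearMap.lTensor_zero]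
      rfl
    have := congrArg l h0
    rw [map_zero, ← LinearMap.comp_apply, hl] at this
    exact this
  have : Subsingleton (S ⊗[A] P.homology p) :=
    ((LinearEquiv.baseChange A S _ _ (hKer P p))).toEquiv.subsingleton
  rw [Module.mem_support_iff_nontrivial_residueField_tensorProduct, not_nontrivial_iff_subsingleton]
  exact ((TensorProduct.AlgebraTensorModule.cancelBaseChange A S K K (P.homology p)).symm).toEquiv.subsingleton

include hP in
/-- If `d_p` vanishes everywhere then `W_p` and `W_{p-1}` are flat. -/
theorem flat_W_of_dRank_eq_zero (p : ℤ) (h : ∀ x, CohIII.dRank P p x = 0) :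
    Module.Flat A (W P p) ∧ Module.Flat A (W P (p - 1)) := by
  have hq : Module.Flat A (W P (p - 1)) := by
    let Mp : ∀ (I : Ideal A) [I.IsMaximal], Type u := fun I _ => Localization.AtPrime I ⊗[A] W P (p - 1)
    let fp : ∀ (I : Ideal A) [I.IsMaximal], W P (p - 1) →ₗ[A] Mp I := fun I _ =>
      TensorProduct.mk A (Localization.AtPrime I) (W P (p - 1)) 1
    have : ∀ (I : Ideal A) [I.IsMaximal], IsLocalizedModule I.primeCompl (fp I) := fun I _ =>
      (isLocalizedModule_iff_isBaseChange I.primeCompl (Localization.AtPrime I) _).2
        (TensorProduct.isBaseChange A (W P (p - 1)) (Localization.AtPrime I))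
    refine Module.flat_of_isLocalized_maximal (R := A) (S := A) (W P (p - 1)) Mp fp fun I hI => ?_
    have := (local_split P hP p ⟨I, hI.isPrime⟩ (h _)).2
    exact Module.Flat.trans A (Localization.AtPrime I) _
  refine ⟨?_, hq⟩
  have hzero : Subsingleton (P.homology p) :=
    (Module.support_eq_empty_iff (R := A)).1 (Set.eq_empty_iff_forall_notMem.2 fun x =>
      notMem_support_of_dRank_eq_zero P hP p x (h x))
  have hinj : Function.Injective (dW P p) := by
    rw [← LinearMap.ker_eq_bot]
    have : Subsingleton (LinearMap.ker (dW P p)) := (hKer P p).symm.toEquiv.subsingleton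
    exact Submodule.eq_bot_of_subsingleton
  have := (hP (p - 1)).2
  refine KFlatLib.flat_kernel (dW P p) (LinearMap.range (P.d (p - 1 + 1) (p - 1)).hom).mkQ hinj ?_
    (Submodule.mkQ_surjective _)
  rw [LinearMap.exact_iff, Submodule.ker_mkQ, range_dW]

include hP in
/-- Flat homology in low degrees makes the cokernels flat. -/
theorem flat_W_of_homology_flat (b : ℤ) (hb : ∀ i < b, IsZero (P.X i)) (p₀ : ℤ)
    (h : ∀ i ≤ p₀, Module.Flat A (P.homology i)) : ∀ i ≤ p₀, Module.Flat A (W P i) := by
  suffices ∀ (n : ℕ) (i : ℤ), i + 1 - b ≤ n → i ≤ p₀ → Module.Flat A (W P i) from fun i hi =>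
    this (i + 1 - b).toNat i (Int.self_le_toNat _) hi
  intro n
  induction n with
  | zero =>
    intro i hi _
    have := ModuleCat.subsingleton_of_isZero (hb i (by omega))
    infer_instance
  | succ n ih =>
    intro i hi hi'
    have hq := ih (i - 1) (by omega) (by omega)
    have := (hP (i - 1)).2
    let I := LinearMap.range (dW P i)
    have hexI : Function.Exact I.subtype (LinearMap.range (P.d (i - 1 + 1) (i - 1)).hom).mkQ := by
      rw [LinearMap.exact_iff, Submodule.ker_mkQ, Submodule.range_subtype]
      exact (range_dW P i).symm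
    have hIflat : Module.Flat A I :=
      KFlatLib.flat_kernel I.subtype _ I.subtype_injective hexI (Submodule.mkQ_surjective _)
    have := h i hi'
    have : Module.Flat A (LinearMap.ker (dW P i)) := Module.Flat.of_linearEquiv (hKer P i).symm
    refine FlatCrit.flat_of_extension (LinearMap.ker (dW P i)).subtype (dW P i).rangeRestrict
      Subtype.val_injective ?_ (LinearMap.surjective_rangeRestrict _)
    rw [LinearMap.exact_iff, Submodule.range_subtype, LinearMap.ker_rangeRestrict]

end CohBCLib
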