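import Groth.Agent.CohBCLib.FreeNhd
import Groth.Agent.CohBCLib.Rows
import Groth.Agent.CohBCLib.Vanish
import Groth.Agent.RpushLib.Finite
import Groth.Agent.RichLib.ModFlatLimit

/-! The universal complex over the affine opens of an arbitrary locally Noetherian base. -/

set_option autoImplicit false
set_option maxHeartbeats 1000000

universe u

open CategoryTheory CategoryTheory.Limits AlgebraicGeometry TopologicalSpace Opposite
open RpushLib (overW)

namespace CohBCLib

theorem finite_bcCx_homology {A : Type u} [CommRing A] (P : ChainComplex (ModuleCat.{u} A) ℤ)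
    (hP : ∀ i, Module.Finite A (P.X i) ∧ Module.Free A (P.X i)) (x : PrimeSpectrum A) (i : ℤ) :
    Module.Finite x.asIdeal.ResidueField
      ((CohIII.bcCx (algebraMap A x.asIdeal.ResidueField) P).homology i) := by
  let K := x.asIdeal.ResidueField
  have := (hP i).1
  have : Module.Finite K ((CohIII.bcCx (algebraMap A K) P).X i) :=
    Module.Finite.equiv (FlatCxLib.extEquiv (B := K) (P.X i)).symm
  exact Module.Finite.equiv
    (FlatCxLib.homologyEquiv (CohIII.bcCx (algebraMap A K) P) i (i - 1) (by simp) (i + 1) (by simp))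

theorem spec_map_iso_cancel {R S : CommRingCat.{u}} (r : R ≅ S) {T Z : Scheme.{u}} (c : Spec S ⟶ T)
    (d : T ⟶ Z) : Spec.map r.hom ≫ (Spec.map r.inv ≫ c) ≫ d = c ≫ d := by
  rw [Category.assoc, ← Spec.map_comp_assoc, Iso.inv_hom_id, Spec.map_id, Category.id_comp]

variable {X Y : Scheme.{u}} (f : X ⟶ Y) (F : X.Modules) {W : Y.Opens} (hW : IsAffineOpen W)

/-- The restriction to the preimage of `W`. -/
noncomputable abbrev FW (W : Y.Opens) : (f ⁻¹ᵁ W : Scheme.{u}).Modules := F.restrict (f ⁻¹ᵁ W).ι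

theorem isPullback_overW : IsPullback (f ⁻¹ᵁ W).ι (overW f hW) f hW.fromSpec := by
  refine (isPullback_morphismRestrict f W).flip.of_iso (Iso.refl _) (Iso.refl _) hW.isoSpec (Iso.refl _)
    ?_ ?_ ?_ ?_
  · rw [Iso.refl_hom, Iso.refl_hom, Category.comp_id, Category.id_comp]
  · rw [Iso.refl_hom, Category.id_comp]
    rfl
  · rw [Iso.refl_hom, Iso.refl_hom, Category.comp_id, Category.id_comp]
  · rw [Iso.refl_hom, Category.comp_id, ← IsAffineOpen.isoSpec_inv_ι, Iso.hom_inv_id_assoc]

instance isProper_overW [IsProper f] : IsProper (overW f hW) :=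
  MorphismProperty.of_isPullback (isPullback_overW f hW) inferInstance

theorem isCoh_FW (hF : Coh.IsCoh F) : Coh.IsCoh (FW f F W) :=
  have : Coh.IsQCoh F := hF.1
  ⟨inferInstance, RpushLib.isFT_restrict hF.2 _⟩

theorem flat_FW (hfl : FlatMod.IsFlatOver f F) : FlatMod.IsFlatOver (overW f hW) (FW f F W) := fun x =>
  (RichLib.ModFlat.isFlatOverAt_congr (f' := overW f hW) (f := f) (f ⁻¹ᵁ W).ι hW.fromSpec
    (isPullback_overW f hW).w.symm
    ((Scheme.Modules.restrictFunctorIsoPullback (f ⁻¹ᵁ W).ι).app F) x).2 (hfl _)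

variable [IsProper f] [IsLocallyNoetherian Y]

include hW in
theorem isNoetherianRing_sections : IsNoetherianRing Γ(Y, W) :=
  IsLocallyNoetherian.component_noetherian ⟨W, hW⟩

theorem exists_univ_overW (hF : Coh.IsCoh F) (hfl : FlatMod.IsFlatOver f F) :
    ∃ U : Univ (overW f hW) (FW f F W), U.BC (overW f hW) :=
  have := isNoetherianRing_sections hW
  exists_univ_bc _ _ (isCoh_FW f F hF) (flat_FW f F hW hfl)

omit [IsProper f] in
/-- The fibres at points of `W`. -/
theorem fibre_spec {U : Univ (overW f hW) (FW f F W)} (hU : U.BC (overW f hW)) (p : ℕ)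
    (x : PrimeSpectrum Γ(Y, W)) :
    CohIII.fiberRank f F p (hW.fromSpec x) = CohIII.dRank U.P (-(p : ℤ)) x ∧
      (Subsingleton (CohIII.fiberH f F (hW.fromSpec x) p) ↔ CohIII.dRank U.P (-(p : ℤ)) x = 0) := by
  have := isNoetherianRing_sections hW
  let K := x.asIdeal.ResidueField
  let xx : ↥(Spec Γ(Y, W)) := x
  let y : Y := hW.fromSpec xx
  let e : Y.residueField y ≅ CommRingCat.of K :=
    asIso (hW.fromSpec.residueFieldMap xx) ≪≫ Scheme.Spec.residueFieldIso Γ(Y, W) xx
  let f' : f.fiber y ⟶ Spec (CommRingCat.of K) := f.fiberToSpecResidueField y ≫ Spec.map e.inv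
  let s := Spec.map (CommRingCat.ofHom (algebraMap Γ(Y, W) K))
  have hs : Spec.map e.hom ≫ Y.fromSpecResidueField y = s ≫ hW.fromSpec := by
    rw [Iso.trans_hom, asIso_hom, Spec.map_comp, Category.assoc,
      Scheme.Hom.SpecMap_residueFieldMap_fromSpecResidueField,
      ← Scheme.Spec.map_residueFieldIso_inv_eq_fromSpecResidueField]
    exact spec_map_iso_cancel (Scheme.Spec.residueFieldIso Γ(Y, W) xx) _ _
  have hbig : IsPullback (f.fiberι y) f' f (s ≫ hW.fromSpec) := by
    refine (IsPullback.of_hasPullback f (Y.fromSpecResidueField y)).of_iso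
      (Iso.refl _) (Iso.refl _) (Scheme.Spec.mapIso e.symm.op) (Iso.refl _) ?_ ?_ ?_ ?_
    · exact (Category.comp_id _).trans (Category.id_comp _).symm
    · exact ((Category.id_comp _).trans rfl).symm
    · exact (Category.comp_id _).trans (Category.id_comp _).symm
    · rw [Iso.refl_hom, Category.comp_id]
      refine Eq.trans ?_ (congrArg (Spec.map e.inv ≫ ·) hs)
      rw [← Spec.map_comp_assoc, Iso.hom_inv_id, Spec.map_id, Category.id_comp]
  have t := isPullback_overW f hW
  let g' : f.fiber y ⟶ (f ⁻¹ᵁ W : Scheme.{u}) :=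
    t.lift (f.fiberι y) (f' ≫ s) (hbig.w.trans (Category.assoc _ _ _).symm)
  have hg : g' ≫ (f ⁻¹ᵁ W).ι = f.fiberι y := t.lift_fst _ _ _
  have hsq : IsPullback g' f' (overW f hW) s :=
    IsPullback.of_right (hg.symm ▸ hbig) (t.lift_snd _ _ _) t
  obtain ⟨e₀⟩ := hU K (f.fiber y) g' f' hsq p
  let θ : (Scheme.Modules.pullback g').obj (FW f F W) ≅ CohIII.fiberMod f F y :=
    (Scheme.Modules.pullback g').mapIso
        ((Scheme.Modules.restrictFunctorIsoPullback (f ⁻¹ᵁ W).ι).app F) ≪≫
      (Scheme.Modules.pullbackComp g' (f ⁻¹ᵁ W).ι).app F ≪≫ (Scheme.Modules.pullbackCongr hg).app F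
  let _ := Module.compHom (CohIII.fiberH f F y p) (Coh.toGlobal f')
  let l : ((CohIII.bcCx (algebraMap Γ(Y, W) K) U.P).homology (-(p : ℤ)) : Type u) ≃ₗ[K]
      CohIII.fiberH f F y p := (e₀ ≪≫ (HA f' p).mapIso θ).toLinearEquiv
  have h1 : Module.finrank K (CohIII.fiberH f F y p) = CohIII.dRank U.P (-(p : ℤ)) x :=
    l.finrank_eq.symm
  have : Module.Finite K (CohIII.fiberH f F y p) := by
    have := finite_bcCx_homology U.P U.fin x (-(p : ℤ))
    exact Module.Finite.equiv l
  refine ⟨?_, ?_⟩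
  · rw [← h1]
    exact finrank_eq_of_semilinear (K := Y.residueField y) e.commRingCatIsoToRingEquiv
      (AddEquiv.refl (CohIII.fiberH f F y p)) fun c v => by
        refine congrArg (fun a : Coh.Γtop (f.fiber y) => a • v) ?_
        exact ((toGlobal_comp_specMap (f.fiberToSpecResidueField y) e.inv (e.hom c)).trans
          (congrArg (Coh.toGlobal (f.fiberToSpecResidueField y)) (Iso.hom_inv_id_apply e c))).symm
  · rw [← h1]
    exact Module.finrank_zero_iff.symm

variable [HasInjectiveResolutions X.Modules]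

/-- Sections of `R^p f_*` over `W` are the homology of the universal complex. -/
theorem nonempty_sections_equiv (hF : Coh.IsCoh F) (U : Univ (overW f hW) (FW f F W)) (p : ℕ) :
    Nonempty ((U.P.homology (-(p : ℤ)) : Type u) ≃ₗ[Γ(Y, W)] Γ((Coh.Rpush f p).obj F, W)) := by
  have : Coh.IsQCoh F := hF.1
  let i : U.P.homology (-(p : ℤ)) ≅ (HA (overW f hW) p).obj (FW f F W) :=
    (HomologicalComplex.homologyFunctor _ _ _).mapIso (tensorUnitIso U.P).symm ≪≫
      (U.iso p).app (ModuleCat.of Γ(Y, W) Γ(Y, W)) ≪≫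
      (HA (overW f hW) p).mapIso (tAUnitIso (overW f hW) (FW f F W))
  let eR := RpushLib.rpushSectionsEquiv f F p hW
  let _ := Module.compHom (Coh.HHon X F (f ⁻¹ᵁ W) p) (Coh.toGlobal (overW f hW))
  let eL : Γ((Coh.Rpush f p).obj F, W) ≃ₗ[Γ(Y, W)] Coh.HHon X F (f ⁻¹ᵁ W) p :=
    { eR with
      map_smul' := fun r v => (RpushLib.rpushSectionsEquiv_smul f F p hW r v).trans
        (congrArg (fun a : Coh.Γtop (f ⁻¹ᵁ W : Scheme.{u}) => a • eR v)
          (RpushLib.toGlobal_overW f hW r).symm) }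
  exact ⟨i.toLinearEquiv.trans eL.symm⟩

end CohBCLib
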