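import Groth.Agent.CohBCLib.CechTensor
import Groth.Agent.FlatCxLib.Homology

/-! Cohomology of quasi-coherent modules over the base ring, by the Čech complex, naturally. -/

set_option autoImplicit false
set_option maxHeartbeats 1000000

universe u

open CategoryTheory CategoryTheory.Limits AlgebraicGeometry TopologicalSpace Opposite HomologicalComplex
open RpushLib (secFun)
open QCohLib (HU)

namespace CohBCLib

variable {A : Type u} [CommRing A] {X : Scheme.{u}} (f : X ⟶ Spec (CommRingCat.of A))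

/-- `H^p(X, -)` as modules over the base ring. -/
noncomputable def HA (p : ℕ) : X.Modules ⥤ ModuleCat.{u} A where
  obj G :=
    letI := Module.compHom (Coh.HH X G p) (Coh.toGlobal f)
    ModuleCat.of A (Coh.HH X G p)
  map {G G'} g :=
    letI := Module.compHom (Coh.HH X G p) (Coh.toGlobal f)
    letI := Module.compHom (Coh.HH X G' p) (Coh.toGlobal f)
    ModuleCat.ofHom (X := Coh.HH X G p) (Y := Coh.HH X G' p) (AtlasCoh.hLin f g p)
  map_id G := ModuleCat.hom_ext (DFunLike.ext _ _ fun (x : Coh.HH X G p) => by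
    change Sheaf.H.map ((QCohLib.toAbF X).map (𝟙 G)) p x = x
    rw [CategoryTheory.Functor.map_id, Sheaf.H.map_id_apply])
  map_comp {G G' G''} g g' := ModuleCat.hom_ext (DFunLike.ext _ _ fun (x : Coh.HH X G p) => by
    change Sheaf.H.map ((QCohLib.toAbF X).map (g ≫ g')) p x =
      Sheaf.H.map ((QCohLib.toAbF X).map g') p (Sheaf.H.map ((QCohLib.toAbF X).map g) p x)
    rw [Functor.map_comp, Sheaf.H.map_comp_apply])

/-- The underlying groups. -/
noncomputable def HAForget (p : ℕ) : HA f p ⋙ forget₂ (ModuleCat.{u} A) AddCommGrpCat.{u} ≅ CohIII.HAb X p :=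
  NatIso.ofComponents (fun _ => Iso.refl _) fun _ => rfl

variable {ι : Type u} (U : ι → X.Opens)

theorem resTop_toGlobal (V : X.Opens) (a : A) : Coh.resTop X (op V) (Coh.toGlobal f a) = secA f V a := by
  change X.presheaf.map (homOfLE le_top).op (f.appTop ((Scheme.ΓSpecIso (CommRingCat.of A)).inv a)) = _
  rfl

/-- Multiplication by a scalar. -/
noncomputable def smulCx {ι' : Type} {c : ComplexShape ι'} (C : HomologicalComplex (ModuleCat.{u} A) c) (a : A) :
    C ⟶ C where
  f i := ModuleCat.ofHom (a • LinearMap.id)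
  comm' i j _ := ModuleCat.hom_ext (LinearMap.ext fun x => map_smul (C.d i j).hom a x)

theorem homologyMap_smulCx {ι' : Type} {c : ComplexShape ι'} (C : HomologicalComplex (ModuleCat.{u} A) c)
    (a : A) (i : ι') (x : C.homology i) : homologyMap (smulCx C a) i x = a • x := by
  obtain ⟨z, rfl⟩ := FlatCxLib.hcls_surjective C i (c.next i) rfl x
  refine (FlatCxLib.homologyMap_hcls i _ rfl (smulCx C a) z).trans ?_
  exact (congrArg _ (Subtype.ext rfl)).trans (map_smul (FlatCxLib.hcls C i (c.next i) rfl) a z)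

/-- An exact functor commutes with homology. -/
noncomputable def forgetH {C D : Type*} [Category* C] [Category* D] [Abelian C] [Abelian D] (F : C ⥤ D)
    [F.Additive] [F.PreservesHomology] {ι' : Type} (c : ComplexShape ι') (p : ι') :
    F.mapHomologicalComplex c ⋙ homologyFunctor D c p ≅ homologyFunctor C c p ⋙ F :=
  NatIso.ofComponents (fun K => (K.sc p).mapHomologyIso F) fun φ =>
    ShortComplex.mapHomologyIso_hom_naturality ((shortComplexFunctor C c p).map φ) F

/-- Underlying groups of Čech cohomology, at one module. -/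
noncomputable def cechHApp (p : ℕ) (G : X.Modules) :
    (forget₂ (ModuleCat.{u} A) AddCommGrpCat.{u}).obj (((cechA f U).obj G).homology p) ⟶
      (CechLib.cx (X := X.toTopCat) U (Coh.toAb G).obj).homology p :=
  (forgetH (forget₂ (ModuleCat.{u} A) AddCommGrpCat.{u}) (ComplexShape.up ℕ) p).inv.app ((cechA f U).obj G) ≫
    homologyMap ((cechAForget f U).hom.app G) p

instance (p : ℕ) (G : X.Modules) : IsIso (cechHApp f U p G) :=
  inferInstanceAs (IsIso ((forgetH (forget₂ (ModuleCat.{u} A) AddCommGrpCat.{u}) (ComplexShape.up ℕ) p).inv.app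
    ((cechA f U).obj G) ≫ (homologyFunctor _ _ p).map ((cechAForget f U).hom.app G)))

theorem cechHApp_comm (p : ℕ) {G G' : X.Modules} (φ : (cechA f U).obj G ⟶ (cechA f U).obj G')
    (ψ : CechLib.cx (X := X.toTopCat) U (Coh.toAb G).obj ⟶ CechLib.cx (X := X.toTopCat) U (Coh.toAb G').obj)
    (h : ((forget₂ (ModuleCat.{u} A) AddCommGrpCat.{u}).mapHomologicalComplex _).map φ ≫
      (cechAForget f U).hom.app G' = (cechAForget f U).hom.app G ≫ ψ) :
    (forget₂ (ModuleCat.{u} A) AddCommGrpCat.{u}).map (homologyMap φ p) ≫ cechHApp f U p G' =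
      cechHApp f U p G ≫ homologyMap ψ p := by
  have h1 := (forgetH (forget₂ (ModuleCat.{u} A) AddCommGrpCat.{u}) (ComplexShape.up ℕ) p).inv.naturality φ
  refine (Category.assoc _ _ _).symm.trans ((congrArg (fun t => t ≫ _) h1).trans
    ((Category.assoc _ _ _).trans (Eq.trans (congrArg (_ ≫ ·) ?_) (Category.assoc _ _ _).symm)))
  exact (homologyMap_comp _ _ _).symm.trans
    ((congrArg (fun t => homologyMap t p) h).trans (homologyMap_comp _ _ _))

variable (haff : ∀ (n : ℕ) (J : Fin (n + 1) → ι), IsAffineOpen (capX U J)) (hcov : ⨆ i, U i = ⊤)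

include haff in
theorem acyc_qcoh (G : X.Modules) [Coh.IsQCoh G] : CechLib.Acyc (X := X.toTopCat) U (Coh.toAb G) :=
  fun n J q => QCohLib.subsingleton_HU_affine G q (haff n J)

/-- `⊤` for the cover. -/
noncomputable def huTop (T : QCohLib.AbSh X.toTopCat) (p : ℕ) : HU T p (⨆ i, U i) ≃+ HU T p ⊤ :=
  hcov ▸ AddEquiv.refl _

theorem huTop_comp {T T' : QCohLib.AbSh X.toTopCat} (g : T ⟶ T') (p : ℕ) (x : HU T p (⨆ i, U i)) :
    huTop U hcov T' p (Abelian.Ext.comp x (Abelian.Ext.mk₀ g) (add_zero p)) =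
      Abelian.Ext.comp (huTop U hcov T p x) (Abelian.Ext.mk₀ g) (add_zero p) := by
  have key : ∀ (W : X.Opens) (h : (⨆ i, U i) = W) (y : HU T p (⨆ i, U i)),
      (h ▸ AddEquiv.refl _ : HU T' p (⨆ i, U i) ≃+ HU T' p W) (Abelian.Ext.comp y (Abelian.Ext.mk₀ g) (add_zero p)) =
        Abelian.Ext.comp ((h ▸ AddEquiv.refl _ : HU T p (⨆ i, U i) ≃+ HU T p W) y) (Abelian.Ext.mk₀ g) (add_zero p) := by
    rintro W rfl y
    rfl
  exact key ⊤ hcov x

/-- Čech cohomology computes cohomology. -/
noncomputable def hCmpAdd (p : ℕ) (G : X.Modules) [Coh.IsQCoh G] :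
    ((cechA f U).obj G).homology p ≃+ Coh.HH X G p :=
  (asIso (cechHApp f U p G)).addCommGroupIsoToAddEquiv.trans
    ((cechCmp (X := X.toTopCat) U p (Coh.toAb G) (acyc_qcoh U haff G)).trans
      ((huTop U hcov (Coh.toAb G) p).trans (QCohLib.hEquiv (Coh.toAb G) p).symm))

theorem hCmp_aux (p : ℕ) {T T' : QCohLib.AbSh X.toTopCat} (hT : CechLib.Acyc (X := X.toTopCat) U T)
    (hT' : CechLib.Acyc (X := X.toTopCat) U T') (g : T ⟶ T')
    (y : (CechLib.cx (X := X.toTopCat) U T.obj).homology p) :
    (QCohLib.hEquiv T' p).symm (huTop U hcov T' p (cechCmp (X := X.toTopCat) U p T' hT'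
      (homologyMap ((cechComplexFunctor (C := Opens X) U).map g.hom) p y))) =
      Sheaf.H.map g p ((QCohLib.hEquiv T p).symm
        (huTop U hcov T p (cechCmp (X := X.toTopCat) U p T hT y))) := by
  rw [cechCmp_natural U p T T' hT hT' g y, huTop_comp]
  refine (AddEquiv.symm_apply_eq _).2 ?_
  refine Eq.trans ?_ (QCohLib.hEquiv_map g p _).symm
  rw [AddEquiv.apply_symm_apply]

theorem hCmpAdd_apply (p : ℕ) (G : X.Modules) [Coh.IsQCoh G] (x : ((cechA f U).obj G).homology p) :
    hCmpAdd f U haff hcov p G x = (QCohLib.hEquiv (Coh.toAb G) p).symm (huTop U hcov _ p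
      (cechCmp (X := X.toTopCat) U p _ (acyc_qcoh U haff G) (cechHApp f U p G x))) := rfl

theorem hCmp_natural (p : ℕ) {G G' : X.Modules} [Coh.IsQCoh G] [Coh.IsQCoh G'] (g : G ⟶ G')
    (x : ((cechA f U).obj G).homology p) :
    hCmpAdd f U haff hcov p G' (homologyMap ((cechA f U).map g) p x) =
      Sheaf.H.map ((QCohLib.toAbF X).map g) p (hCmpAdd f U haff hcov p G x) := by
  have h := ConcreteCategory.congr_hom
    (cechHApp_comm f U p ((cechA f U).map g) _ ((cechAForget f U).hom.naturality g)) x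
  rw [hCmpAdd_apply, hCmpAdd_apply]
  refine (congrArg (fun t => (QCohLib.hEquiv (Coh.toAb G') p).symm (huTop U hcov _ p
    (cechCmp (X := X.toTopCat) U p _ (acyc_qcoh U haff G') t))) h).trans ?_
  exact hCmp_aux U hcov p (acyc_qcoh U haff G) (acyc_qcoh U haff G') ((QCohLib.toAbF X).map g)
    (cechHApp f U p G x)

theorem hCmp_smul (p : ℕ) (G : X.Modules) [Coh.IsQCoh G] (a : A) (x : ((cechA f U).obj G).homology p) :
    letI := Module.compHom (Coh.HH X G p) (Coh.toGlobal f)
    hCmpAdd f U haff hcov p G (a • x) = a • hCmpAdd f U haff hcov p G x := by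
  have hcomm : ((forget₂ (ModuleCat.{u} A) AddCommGrpCat.{u}).mapHomologicalComplex _).map
        (smulCx ((cechA f U).obj G) a) ≫ ((cechAForget f U).hom.app G) =
      (cechAForget f U).hom.app G ≫
        (cechComplexFunctor (C := Opens X) U).map (Coh.smulAb G (Coh.toGlobal f a)).hom := by
    refine HomologicalComplex.hom_ext _ _ fun n => ConcreteCategory.hom_ext _ _ fun c => ?_
    apply (CechLib.cochainEquiv (X := X.toTopCat) U (Coh.toAb G).obj n).injective
    funext J
    refine Eq.trans (congrFun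
      ((CechLib.cochainEquiv (X := X.toTopCat) U (Coh.toAb G).obj n).apply_symm_apply _) J) ?_
    refine Eq.trans ?_ (CechLib.cochainEquiv_map (X := X.toTopCat) U
      (Coh.smulAb G (Coh.toGlobal f a)).hom n _ J).symm
    refine Eq.trans ?_ (congrArg ((Coh.smulAb G (Coh.toGlobal f a)).hom.app (op (capX U J)))
      (congrFun ((CechLib.cochainEquiv (X := X.toTopCat) U (Coh.toAb G).obj n).apply_symm_apply c) J)).symm
    refine Eq.trans ?_ (Coh.smulAb_app G (Coh.toGlobal f a) (op (capX U J)) _).symm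
    exact (congrArg (fun r : Γ(X, capX U J) => r • (show Γ(G, capX U J) from c J))
      (resTop_toGlobal f (capX U J) a)).symm
  have h := ConcreteCategory.congr_hom
    (cechHApp_comm f U p (smulCx ((cechA f U).obj G) a) _ hcomm) x
  rw [hCmpAdd_apply, hCmpAdd_apply, ← homologyMap_smulCx]
  refine (congrArg (fun t => (QCohLib.hEquiv (Coh.toAb G) p).symm (huTop U hcov _ p
    (cechCmp (X := X.toTopCat) U p _ (acyc_qcoh U haff G) t))) h).trans ?_
  exact hCmp_aux U hcov p (acyc_qcoh U haff G) (acyc_qcoh U haff G) (Coh.smulAb G (Coh.toGlobal f a))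
    (cechHApp f U p G x)

/-- Čech cohomology computes cohomology, as modules. -/
noncomputable def hCmp (p : ℕ) (G : X.Modules) [Coh.IsQCoh G] :
    ((cechA f U).obj G).homology p ≅ (HA f p).obj G :=
  letI := Module.compHom (Coh.HH X G p) (Coh.toGlobal f)
  ({ hCmpAdd f U haff hcov p G with map_smul' := hCmp_smul f U haff hcov p G } :
    ((cechA f U).obj G).homology p ≃ₗ[A] Coh.HH X G p).toModuleIso

variable [Fintype ι] (F : X.Modules) [Coh.IsQCoh F]

/-- `M ↦ H^p(X, F ⊗ M)` is the homology of the Čech complex tensored with `M`. -/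
noncomputable def haTAIso (p : ℕ) : CohIII.TFun ((cechA f U).obj F) p ≅ tA f F ⋙ HA f p :=
  cechTNat f U F haff p ≪≫
    NatIso.ofComponents
      (fun M => haveI := isQCoh_tA f F M; hCmp f U haff hcov p ((tA f F).obj M))
      fun {M M'} g => by
        have := isQCoh_tA f F M
        have := isQCoh_tA f F M'
        exact ModuleCat.hom_ext (LinearMap.ext fun x => hCmp_natural f U haff hcov p ((tA f F).map g) x)

end CohBCLib
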