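import Groth.Agent.CohBCLib.LocFreeSec
import Groth.Agent.QCohLib.Affine
import Groth.Agent.QCohLib.OpenRestr
import Groth.Agent.FlatCxLib.Rank
import Mathlib.RingTheory.Localization.Free
import Mathlib.RingTheory.Spectrum.Prime.FreeLocus

/-! Free and vanishing neighbourhoods from the module of sections on an affine open. -/

set_option autoImplicit false
set_option maxHeartbeats 1000000

universe u

open CategoryTheory CategoryTheory.Limits AlgebraicGeometry TopologicalSpace Opposite
open FlatCxLib (fibreRank)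

namespace CohBCLib

variable {Y : Scheme.{u}} {W : Y.Opens} (hW : IsAffineOpen W) (G : Y.Modules) [Coh.IsQCoh G]

include hW in
/-- A basis of the localized sections gives a basis of sections over the basic open. -/
theorem nonempty_basis_sections (r : Γ(Y, W)) {V : Y.Opens} (hV : V = Y.basicOpen r) {n : ℕ}
    (b : Module.Basis (Fin n) (Localization.Away r) (LocalizedModule.Away r Γ(G, W))) :
    Nonempty (Module.Basis (Fin n) Γ(Y, V) Γ(G, V)) := by
  subst hV
  let res := Y.presheaf.map (homOfLE (Y.basicOpen_le r)).op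
  let alg : Algebra Γ(Y, W) Γ(Y, Y.basicOpen r) := res.hom.toAlgebra
  let _ : Module Γ(Y, W) Γ(G, Y.basicOpen r) := Module.compHom _ res.hom
  have : IsScalarTower Γ(Y, W) Γ(Y, Y.basicOpen r) Γ(G, Y.basicOpen r) :=
    ⟨fun a c m => mul_smul (res a) c m⟩
  let ρ : Γ(G, W) →ₗ[Γ(Y, W)] Γ(G, Y.basicOpen r) :=
    { toFun := fun m => G.presheaf.map (homOfLE (Y.basicOpen_le r)).op m
      map_add' := fun _ _ => map_add _ _ _
      map_smul' := fun a m => Scheme.Modules.map_smul G (homOfLE (Y.basicOpen_le r)) a m }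
  have : IsLocalization.Away r Γ(Y, Y.basicOpen r) := hW.isLocalization_basicOpen r
  have hloc := QCohLib.localizingAt_of_isQCoh hW G r
  have : IsLocalizedModule (Submonoid.powers r) ρ := by
    refine ⟨?_, fun y => ?_, fun {x₁ x₂} h => ?_⟩
    · rintro ⟨_, k, rfl⟩
      have hu : IsUnit (algebraMap Γ(Y, W) Γ(Y, Y.basicOpen r) (r ^ k)) :=
        IsLocalization.map_units _ (⟨r ^ k, k, rfl⟩ : Submonoid.powers r)
      refine (Module.End.isUnit_iff _).2 ⟨fun a c h => (hu.smul_left_cancel).1 h, fun a => ?_⟩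
      obtain ⟨v, hv⟩ := hu
      refine ⟨(↑v⁻¹ : Γ(Y, Y.basicOpen r)) • a, ?_⟩
      change algebraMap Γ(Y, W) Γ(Y, Y.basicOpen r) (r ^ k) • (↑v⁻¹ : Γ(Y, Y.basicOpen r)) • a = a
      rw [← hv, ← mul_smul, Units.mul_inv, one_smul]
    · obtain ⟨k, t, ht⟩ := hloc.exists_extend y
      refine ⟨(t, ⟨r ^ k, k, rfl⟩), ?_⟩
      change res (r ^ k) • y = _
      rw [map_pow]
      exact ht.symm
    · obtain ⟨k, hk⟩ := hloc.eq_zero (x₁ - x₂) (by rw [map_sub, sub_eq_zero]; exact h)
      refine ⟨⟨r ^ k, k, rfl⟩, ?_⟩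
      rw [Submonoid.smul_def, Submonoid.smul_def, ← sub_eq_zero, ← smul_sub]
      refine Eq.trans ?_ hk
      simp
  let e := IsLocalizedModule.iso (Submonoid.powers r) ρ
  let a := IsLocalization.algEquiv (Submonoid.powers r) (Localization.Away r) Γ(Y, Y.basicOpen r)
  let Φ : Γ(G, Y.basicOpen r) ≃ₗ[Γ(Y, W)] (Fin n →₀ Γ(Y, Y.basicOpen r)) :=
    e.symm.trans ((b.repr.restrictScalars Γ(Y, W)).trans (Finsupp.mapRange.linearEquiv a.toLinearEquiv))
  exact ⟨Module.Basis.ofRepr (Φ.extendScalarsOfIsLocalization (Submonoid.powers r) Γ(Y, Y.basicOpen r))⟩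

include hW in
/-- Free localized sections give a free restriction. -/
theorem nonempty_restrict_iso_freeMod (r : Γ(Y, W)) {n : ℕ}
    (b : Module.Basis (Fin n) (Localization.Away r) (LocalizedModule.Away r Γ(G, W))) :
    Nonempty (G.restrict (Y.basicOpen r).ι ≅ FlatMod.freeMod (↑(Y.basicOpen r)) n) := by
  let V := Y.basicOpen r
  have : IsAffine (V : Scheme.{u}) := hW.basicOpen r
  have : Coh.IsQCoh (G.restrict V.ι) := inferInstance
  obtain ⟨b'⟩ := nonempty_basis_sections hW G r (V := V.ι ''ᵁ ⊤) (Scheme.Opens.ι_image_top V) b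
  refine nonempty_iso_freeMod _ (Module.Basis.ofRepr
    { toFun := fun x => b'.repr x
      map_add' := fun x y => b'.repr.map_add x y
      map_smul' := fun c x => ?_
      invFun := fun y => b'.repr.symm y
      left_inv := b'.repr.symm_apply_apply
      right_inv := b'.repr.apply_symm_apply })
  refine (congrArg b'.repr ?_).trans (b'.repr.map_smul c x)
  refine (Scheme.Modules.smul_restrictAppIso_hom_apply V.ι G ⊤ c x).trans ?_
  rw [Scheme.Opens.ι_appIso]
  rfl

include hW in
/-- Finite projective sections give a free neighbourhood of the expected rank. -/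
theorem exists_free_nhd [Module.Finite Γ(Y, W) Γ(G, W)] [Module.Projective Γ(Y, W) Γ(G, W)]
    (x : PrimeSpectrum Γ(Y, W)) {n : ℕ} (hn : fibreRank Γ(G, W) x = n) :
    ∃ U : Y.Opens, hW.fromSpec x ∈ U ∧ Nonempty (G.restrict U.ι ≅ FlatMod.freeMod (↑U) n) := by
  have : Module.FinitePresentation Γ(Y, W) Γ(G, W) := Module.finitePresentation_of_projective _ _
  have : Module.Free (Localization.AtPrime x.asIdeal) (LocalizedModule x.asIdeal.primeCompl Γ(G, W)) :=
    Module.free_of_flat_of_isLocalRing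
  obtain ⟨r, hr, hfree, hrank⟩ := Module.FinitePresentation.exists_free_localizedModule_powers
    x.asIdeal.primeCompl (LocalizedModule.mkLinearMap x.asIdeal.primeCompl Γ(G, W))
    (Localization.AtPrime x.asIdeal)
  have hrank' : Module.finrank (Localization.Away r) (LocalizedModule.Away r Γ(G, W)) = n := by
    rw [← hn, FlatCxLib.fibreRank_eq_rankAtStalk]
    exact hrank
  have hne : Nontrivial (Localization.Away r) := (IsLocalization.lift (M := Submonoid.powers r)
    (g := algebraMap Γ(Y, W) (Localization.AtPrime x.asIdeal)) fun y =>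
      IsLocalization.map_units (Localization.AtPrime x.asIdeal)
        (⟨y.1, (Submonoid.powers_le (P := x.asIdeal.primeCompl)).2 hr y.2⟩ :
          x.asIdeal.primeCompl)).domain_nontrivial
  refine ⟨Y.basicOpen r, ?_, nonempty_restrict_iso_freeMod hW G r
    (Module.finBasisOfFinrankEq _ _ hrank')⟩
  change x ∈ hW.fromSpec ⁻¹ᵁ Y.basicOpen r
  rw [hW.fromSpec_preimage_basicOpen]
  exact hr

include hW in
/-- Off the support of the sections the module vanishes. -/
theorem exists_zero_nhd [Module.Finite Γ(Y, W) Γ(G, W)] (x : PrimeSpectrum Γ(Y, W))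
    (hx : x ∉ Module.support Γ(Y, W) Γ(G, W)) :
    ∃ U : Y.Opens, hW.fromSpec x ∈ U ∧ IsZero (G.restrict U.ι) := by
  rw [Module.support_eq_zeroLocus, PrimeSpectrum.mem_zeroLocus, Set.not_subset] at hx
  obtain ⟨r, hr, hrx⟩ := hx
  have : Subsingleton (LocalizedModule.Away r Γ(G, W)) :=
    LocalizedModule.subsingleton_iff.2 fun m => ⟨r, ⟨1, pow_one r⟩, Module.mem_annihilator.1 hr m⟩
  obtain ⟨e⟩ := nonempty_restrict_iso_freeMod hW G r (n := 0) (Module.Basis.empty _)
  refine ⟨Y.basicOpen r, ?_, IsZero.of_iso ?_ e⟩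
  · change x ∈ hW.fromSpec ⁻¹ᵁ Y.basicOpen r
    rw [hW.fromSpec_preimage_basicOpen]
    exact hrx
  · exact (IsZero.iff_id_eq_zero _).2 (Sigma.hom_ext _ _ fun i => Fin.elim0 i)

end CohBCLib
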