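import Groth.Agent.KFlatLib.AffinePull
import Groth.Agent.KFlatLib.PushTensor
import Groth.Agent.KFlatLib.QCohTerms
import Groth.Agent.FlatLib.QStalk
import Mathlib.RingTheory.Localization.BaseChange

/-! Sections over affine opens of tensor products of quasi-coherent modules. -/

set_option autoImplicit false

universe u

open CategoryTheory CategoryTheory.Limits AlgebraicGeometry TopologicalSpace Opposite TensorProduct
open KFlatLib MonoidalCategory

namespace CohBCLib

section Tm

variable {X : TopCat.{u}} {R : X.Presheaf CommRingCat.{u}} (P Q : PM R) {U : Opens X}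

theorem tm_add_left (m m' : P.obj (op U)) (n : Q.obj (op U)) :
    tm P Q (m + m') n = tm P Q m n + tm P Q m' n :=
  TensorProduct.add_tmul m m' n

theorem tm_add_right (m : P.obj (op U)) (n n' : Q.obj (op U)) :
    tm P Q m (n + n') = tm P Q m n + tm P Q m n' :=
  TensorProduct.tmul_add m n n'

end Tm

variable {X : Scheme.{u}}

/-- The product of two sections. -/
noncomputable def prodSec (M N : X.Modules) (V : X.Opens) (m : Γ(M, V)) (n : Γ(N, V)) : Γ(tens M N, V) :=
  shApp M N V (tm (DCoh.toP.obj M : PM X.presheaf) (DCoh.toP.obj N : PM X.presheaf) m n)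

theorem prodSec_add_left (M N : X.Modules) (V : X.Opens) (m m' : Γ(M, V)) (n : Γ(N, V)) :
    prodSec M N V (m + m') n = prodSec M N V m n + prodSec M N V m' n :=
  (congrArg (shApp M N V) (tm_add_left _ _ m m' n)).trans (shApp_add M N V _ _)

theorem prodSec_add_right (M N : X.Modules) (V : X.Opens) (m : Γ(M, V)) (n n' : Γ(N, V)) :
    prodSec M N V m (n + n') = prodSec M N V m n + prodSec M N V m n' :=
  (congrArg (shApp M N V) (tm_add_right _ _ m n n')).trans (shApp_add M N V _ _)

theorem prodSec_smul_left (M N : X.Modules) (V : X.Opens) (r : Γ(X, V)) (m : Γ(M, V)) (n : Γ(N, V)) :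
    prodSec M N V (r • m) n = r • prodSec M N V m n :=
  (congrArg (shApp M N V) (tm_smul_left _ _ r m n)).trans (shApp_smul M N V r _)

theorem prodSec_smul_right (M N : X.Modules) (V : X.Opens) (r : Γ(X, V)) (m : Γ(M, V)) (n : Γ(N, V)) :
    prodSec M N V m (r • n) = r • prodSec M N V m n :=
  (congrArg (shApp M N V) (tm_smul_comm _ _ r m n).symm).trans (prodSec_smul_left M N V r m n)

theorem prodSec_map (M N : X.Modules) {V W : X.Opens} (h : W ≤ V) (m : Γ(M, V)) (n : Γ(N, V)) :
    (tens M N).presheaf.map (homOfLE h).op (prodSec M N V m n) =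
      prodSec M N W (M.presheaf.map (homOfLE h).op m) (N.presheaf.map (homOfLE h).op n) := by
  refine (congr($((((PresheafOfModules.sheafificationAdjunction.{u} (R := X.ringCatSheaf)
    (𝟙 X.ringCatSheaf.obj)).unit.app (pT M N : X.PresheafOfModules))).naturality (homOfLE h).op)
      (tm (DCoh.toP.obj M : PM X.presheaf) (DCoh.toP.obj N : PM X.presheaf) m n))).symm.trans ?_
  exact congrArg (shApp M N W) (rst_tm (P := (DCoh.toP.obj M : PM X.presheaf))
    (Q := (DCoh.toP.obj N : PM X.presheaf)) h m n)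

theorem prodSec_map_left {M M' : X.Modules} (f : M ⟶ M') (N : X.Modules) (V : X.Opens)
    (m : Γ(M, V)) (n : Γ(N, V)) :
    (((DCoh.tensorBi (X := X)).map f).app N).app V (prodSec M N V m n) = prodSec M' N V (f.app V m) n :=
  shApp_map (M := M) (N := N) (DCoh.toP.map f ▷ DCoh.toP.obj N) V _

/-- `Γ(M, V) ⊗ Γ(N, V) → Γ(M ⊗ N, V)`. -/
noncomputable def secTens (M N : X.Modules) (V : X.Opens) :
    Γ(M, V) ⊗[Γ(X, V)] Γ(N, V) →ₗ[Γ(X, V)] Γ(tens M N, V) :=
  TensorProduct.lift (LinearMap.mk₂ _ (prodSec M N V) (prodSec_add_left M N V) (prodSec_smul_left M N V)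
    (prodSec_add_right M N V) (prodSec_smul_right M N V))

theorem secTens_tmul (M N : X.Modules) (V : X.Opens) (m : Γ(M, V)) (n : Γ(N, V)) :
    secTens M N V (m ⊗ₜ n) = prodSec M N V m n := rfl

theorem secTens_bijective (M N : X.Modules) [Coh.IsQCoh M] [Coh.IsQCoh N] [Coh.IsQCoh (tens M N)]
    {V : X.Opens} (hV : IsAffineOpen V) : Function.Bijective (secTens M N V) := by
  refine bijective_of_local_loc _ fun P hP => ?_
  let p : PrimeSpectrum Γ(X, V) := ⟨P, hP.isPrime⟩
  let x : X := hV.fromSpec p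
  have hx : x ∈ V := hV.opensRange_fromSpec.le ⟨p, rfl⟩
  have hp : hV.primeIdealOf ⟨x, hx⟩ = p :=
    hV.fromSpec.isOpenEmbedding.injective (hV.fromSpec_primeIdealOf ⟨x, hx⟩)
  refine ⟨hP.isPrime, (tens M N).presheaf.stalk x, inferInstance,
    Module.compHom _ (X.presheaf.germ V x hx).hom, ?_⟩
  let : Algebra Γ(X, V) (X.presheaf.stalk x) := (X.presheaf.germ V x hx).hom.toAlgebra
  let := Module.compHom (M.presheaf.stalk x) (X.presheaf.germ V x hx).hom
  let := Module.compHom (N.presheaf.stalk x) (X.presheaf.germ V x hx).hom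
  let := Module.compHom ((tens M N).presheaf.stalk x) (X.presheaf.germ V x hx).hom
  have : IsScalarTower Γ(X, V) (X.presheaf.stalk x) (M.presheaf.stalk x) :=
    IsScalarTower.of_algebraMap_smul fun _ _ ↦ rfl
  have : IsScalarTower Γ(X, V) (X.presheaf.stalk x) (N.presheaf.stalk x) :=
    IsScalarTower.of_algebraMap_smul fun _ _ ↦ rfl
  have : IsScalarTower Γ(X, V) (X.presheaf.stalk x) ((tens M N).presheaf.stalk x) :=
    IsScalarTower.of_algebraMap_smul fun _ _ ↦ rfl
  have : IsLocalization.AtPrime (X.presheaf.stalk x) (hV.primeIdealOf ⟨x, hx⟩).asIdeal :=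
    hV.isLocalization_stalk ⟨x, hx⟩
  have hM := FlatLib.isLocalizedModule_germLin M hV hx
  have hN := FlatLib.isLocalizedModule_germLin N hV hx
  have hT := FlatLib.isLocalizedModule_germLin (tens M N) hV hx
  rw [hp] at this hM hN hT
  refine ⟨FlatLib.germLin (tens M N) hx, hT, ?_⟩
  let e : M.presheaf.stalk x ⊗[Γ(X, V)] N.presheaf.stalk x ≃ₗ[Γ(X, V)] (tens M N).presheaf.stalk x :=
    ((IsLocalization.moduleTensorEquiv p.asIdeal.primeCompl (X.presheaf.stalk x)
      (M.presheaf.stalk x) (N.presheaf.stalk x)).symm.trans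
        (LinearEquiv.ofBijective (stalkTensorLin M N x) (stalkTensorLin_bijective M N x))).restrictScalars _
  have key : (FlatLib.germLin (tens M N) hx).comp (secTens M N V) =
      e.toLinearMap.comp (TensorProduct.map (FlatLib.germLin M hx) (FlatLib.germLin N hx)) := by
    refine TensorProduct.ext' fun m n => ?_
    exact (stalkTensorLin_germ M N x hx m n).symm
  rw [key]
  exact IsLocalizedModule.of_linearEquiv _ _ _

end CohBCLib
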