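import Groth.Agent.CohBCLib.SecTensor
import Groth.Agent.KFlatLib.FreeModel
import Groth.Agent.RpushLib.Sec
import Groth.Agent.QCohLib.QCoh
import Groth.Prelude.Def_ega3

/-! `F ⊗_A M` on a scheme over `Spec A`: quasi-coherence and sections over affine opens. -/

set_option autoImplicit false

universe u

open CategoryTheory CategoryTheory.Limits AlgebraicGeometry TopologicalSpace Opposite TensorProduct
open KFlatLib MonoidalCategory

namespace CohBCLib

variable {A : Type u} [CommRing A] {X : Scheme.{u}} (f : X ⟶ Spec (CommRingCat.of A))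

/-- `M ↦ f^*(M~) ⊗ F`. -/
noncomputable abbrev tA (F : X.Modules) : ModuleCat.{u} A ⥤ X.Modules :=
  tilde.functor (CommRingCat.of A) ⋙ Scheme.Modules.pullback f ⋙ DCoh.tensorRightMod F

theorem tensorAFunctor_eq [X.Over (Spec (CommRingCat.of A))] (F : X.Modules) :
    CohIII.tensorAFunctor A F = tA (X ↘ Spec (CommRingCat.of A)) F := rfl

/-- The scalars acting on sections over `V`. -/
noncomputable def secA (V : X.Opens) : A →+* Γ(X, V) :=
  ((Scheme.ΓSpecIso (CommRingCat.of A)).inv ≫ f.appLE ⊤ V le_top).hom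

theorem map_secA {V W : X.Opens} (h : W ≤ V) (a : A) :
    X.presheaf.map (homOfLE h).op (secA f V a) = secA f W a := by
  have e := f.appLE_map (U := ⊤) (V := V) (V' := W) le_top (homOfLE h).op
  exact congr($(e) ((Scheme.ΓSpecIso (CommRingCat.of A)).inv a))

theorem isQCoh_tA (F : X.Modules) [hF : Coh.IsQCoh F] (M : ModuleCat.{u} A) :
    Coh.IsQCoh ((tA f F).obj M) := by
  let G := tA f F
  have : PreservesColimitsOfSize.{u, u} (Scheme.Modules.pullback f) :=
    (Scheme.Modules.pullbackPushforwardAdjunction f).leftAdjoint_preservesColimits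
  have : PreservesColimitsOfSize.{u, u} (tilde.functor (CommRingCat.of A)) :=
    (tilde.adjunction (R := CommRingCat.of A)).leftAdjoint_preservesColimits
  have hR : Coh.IsQCoh (G.obj (ModuleCat.of A A)) := by
    refine @QCohLib.isQCoh_of_iso _ _ _ (?_ : F ≅ _) hF
    exact (tensUnitIso F).symm ≪≫ ((DCoh.tensorBi (X := X)).flip.obj F).mapIso
      ((pullUnitIso f).symm ≪≫ (Scheme.Modules.pullback f).mapIso (tildeSelf (R := CommRingCat.of A)).symm)
  have hT : PreservesColimitsOfSize.{u, u} (DCoh.tensorRightMod F) :=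
    ⟨fun {J} _ => inferInstanceAs (PreservesColimitsOfShape J ((DCoh.tensorBi (X := X)).flip.obj F))⟩
  have hG : PreservesColimitsOfSize.{u, u} G := inferInstanceAs (PreservesColimitsOfSize.{u, u}
    (tilde.functor (CommRingCat.of A) ⋙ Scheme.Modules.pullback f ⋙ DCoh.tensorRightMod F))
  have hfree : ∀ (M : ModuleCat.{u} A),
      Coh.IsQCoh (G.obj (∐ fun _ : (M : Type u) => ModuleCat.of A A)) := fun M =>
    @QCohLib.isQCoh_of_iso _ _ _ (PreservesCoproduct.iso G _).symm (QCohLib.isQCoh_sigma _ fun _ => hR)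
  let π : ∀ M : ModuleCat.{u} A, (∐ fun _ : (M : Type u) => ModuleCat.of A A) ⟶ M := fun M =>
    Sigma.desc fun m => ModuleCat.ofHom (LinearMap.toSpanSingleton A M m)
  have hπ : ∀ M, Epi (π M) := fun M => (ModuleCat.epi_iff_surjective _).mpr fun m =>
    ⟨(Sigma.ι (fun _ : (M : Type u) => ModuleCat.of A A) m).hom (1 : A), by
      refine (congr($(Sigma.ι_desc (f := fun _ : (M : Type u) => ModuleCat.of A A)
        (fun m => ModuleCat.ofHom (LinearMap.toSpanSingleton A M m)) m).hom (1 : A))).trans ?_
      change (1 : A) • m = m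
      rw [one_smul]⟩
  have := hπ M
  have := hπ (kernel (π M))
  let S := ShortComplex.mk (π (kernel (π M)) ≫ kernel.ι (π M)) (π M)
    (by rw [Category.assoc, kernel.condition, comp_zero])
  have hS : S.Exact := by
    refine (ShortComplex.exact_iff_of_epi_of_isIso_of_mono
      ({ τ₁ := π (kernel (π M)), τ₂ := 𝟙 _, τ₃ := 𝟙 _ } :
        S ⟶ ShortComplex.mk (kernel.ι (π M)) (π M) (kernel.condition _))).mpr ?_
    exact ShortComplex.exact_of_f_is_kernel _ (kernelIsKernel _)
  have hc : IsColimit (CokernelCofork.ofπ (f := G.map S.f) (G.map S.g)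
      ((G.map_comp _ _).symm.trans ((congrArg G.map S.zero).trans (Functor.map_zero G _ _)))) :=
    CokernelCofork.mapIsColimit _ hS.gIsCokernel G
  exact @QCohLib.isQCoh_of_iso _ _ _ ((cokernelIsCokernel (G.map S.f)).coconePointUniqueUpToIso hc)
    (@QCohLib.isQCoh_cokernel _ _ _ (G.map S.f) (hfree _) (hfree _))

/-- An element of `M` as a section of `f^*(M~)`. -/
noncomputable def pullEl (M : ModuleCat.{u} A) (V : X.Opens) (m : M) :
    Γ(pb f (tilde (R := CommRingCat.of A) M), V) :=
  puSecLE f (tilde (R := CommRingCat.of A) M) (U := ⊤) le_top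
    (show Γ(tilde (R := CommRingCat.of A) M, ⊤) from tilde.toOpen (R := CommRingCat.of A) M ⊤ m)

theorem pullEl_add (M : ModuleCat.{u} A) (V : X.Opens) (m m' : M) :
    pullEl f M V (m + m') = pullEl f M V m + pullEl f M V m' :=
  (congrArg (puSecLE f (tilde (R := CommRingCat.of A) M) (U := ⊤) le_top)
    (map_add (tilde.toOpen (R := CommRingCat.of A) M ⊤).hom m m')).trans (map_add _ _ _)

theorem pullEl_smul (M : ModuleCat.{u} A) (V : X.Opens) (a : A) (m : M) :
    pullEl f M V (a • m) = secA f V a • pullEl f M V m := by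
  refine (congrArg (puSecLE f (tilde (R := CommRingCat.of A) M) (U := ⊤) le_top)
    ((map_smul (tilde.toOpen (R := CommRingCat.of A) M ⊤).hom a m).trans
      (Scheme.Modules.smul_Spec_def (R := CommRingCat.of A) (M := tilde M) a _))).trans ?_
  refine (puSecLE_smul f _ le_top _ _).trans ?_
  refine congrArg (fun r => r • pullEl f M V m) ?_
  have e : (Spec (CommRingCat.of A)).presheaf.map (⊤ : (Spec (CommRingCat.of A)).Opens).leTop.op = 𝟙 _ :=
    (congrArg _ (Subsingleton.elim _ (𝟙 _))).trans ((Spec (CommRingCat.of A)).presheaf.map_id _)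
  exact congrArg (f.appLE ⊤ V le_top) (congr($(e) ((Scheme.ΓSpecIso (CommRingCat.of A)).inv a)))

theorem map_pullEl (M : ModuleCat.{u} A) {V W : X.Opens} (h : W ≤ V) (m : M) :
    (pb f (tilde (R := CommRingCat.of A) M)).presheaf.map (homOfLE h).op (pullEl f M V m) =
      pullEl f M W m :=
  congr($(((pb f (tilde (R := CommRingCat.of A) M)).presheaf.map_comp _ _).symm) _)

/-- `Γ(F, V) ⊗_A M → Γ(F ⊗_A M, V)`. -/
noncomputable def secTA (F : X.Modules) (V : X.Opens) (M : ModuleCat.{u} A) :
    ((RpushLib.secFun V (secA f V)).obj F : Type u) ⊗[A] M →ₗ[A]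
      (RpushLib.secFun V (secA f V)).obj ((tA f F).obj M) :=
  TensorProduct.lift (LinearMap.mk₂ A
    (fun s m => prodSec (pb f (tilde (R := CommRingCat.of A) M)) F V (pullEl f M V m) (show Γ(F, V) from s))
    (fun _ _ _ => prodSec_add_right _ _ _ _ _ _)
    (fun a _ _ => prodSec_smul_right _ _ _ (secA f V a) _ _)
    (fun s m m' => (congrArg (fun t => prodSec _ F V t (show Γ(F, V) from s)) (pullEl_add f M V m m')).trans
      (prodSec_add_left _ _ _ _ _ _))
    (fun a s m => (congrArg (fun t => prodSec _ F V t (show Γ(F, V) from s)) (pullEl_smul f M V a m)).trans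
      (prodSec_smul_left _ _ _ (secA f V a) _ _)))

theorem secTA_tmul (F : X.Modules) (V : X.Opens) (M : ModuleCat.{u} A) (s : Γ(F, V)) (m : M) :
    (show Γ((tA f F).obj M, V) from secTA f F V M (s ⊗ₜ m)) =
      prodSec (pb f (tilde (R := CommRingCat.of A) M)) F V (pullEl f M V m) s := rfl

theorem secTA_bijective (F : X.Modules) [Coh.IsQCoh F] {V : X.Opens} (hV : IsAffineOpen V)
    (M : ModuleCat.{u} A) : Function.Bijective (secTA f F V M) := by
  let T := tilde (R := CommRingCat.of A) M
  let P := pb f T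
  have hT : Coh.IsQCoh T := inferInstanceAs (tilde (R := CommRingCat.of A) M).IsQuasicoherent
  have hP : Coh.IsQCoh P := isQCoh_pullback f T
  have hTA : Coh.IsQCoh (tens P F) := isQCoh_tA f F M
  let S' : Type u := Γ(Spec (CommRingCat.of A), ⊤)
  let : Algebra A S' := (Scheme.ΓSpecIso (CommRingCat.of A)).inv.hom.toAlgebra
  let : Algebra S' Γ(X, V) := (f.appLE ⊤ V le_top).hom.toAlgebra
  let : Algebra A Γ(X, V) := (secA f V).toAlgebra
  have : IsScalarTower A S' Γ(X, V) := IsScalarTower.of_algebraMap_eq fun _ => rfl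
  let : Module S' Γ(P, V) := Module.compHom _ (f.appLE ⊤ V le_top).hom
  have : IsScalarTower S' Γ(X, V) Γ(P, V) := IsScalarTower.of_algebraMap_smul fun _ _ => rfl
  let : Module A Γ(P, V) := Module.compHom _ (secA f V)
  have : IsScalarTower A Γ(X, V) Γ(P, V) := IsScalarTower.of_algebraMap_smul fun _ _ => rfl
  have : IsScalarTower A S' Γ(P, V) := IsScalarTower.of_algebraMap_smul fun _ _ => rfl
  let : Module A Γ(T, ⊤) := Module.compHom _ (algebraMap A S')
  have : IsScalarTower A S' Γ(T, ⊤) := IsScalarTower.of_algebraMap_smul fun _ _ => rfl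
  let t₀ : (M : Type u) →ₗ[A] Γ(T, ⊤) :=
    { toFun := fun m => (show Γ(T, ⊤) from tilde.toOpen (R := CommRingCat.of A) M ⊤ m)
      map_add' := map_add (tilde.toOpen (R := CommRingCat.of A) M ⊤).hom
      map_smul' := fun a m => by
        refine ((map_smul (tilde.toOpen (R := CommRingCat.of A) M ⊤).hom a m).trans
          (Scheme.Modules.smul_Spec_def (R := CommRingCat.of A) (M := tilde M) a _)).trans ?_
        have e : (Spec (CommRingCat.of A)).presheaf.map (⊤ : (Spec (CommRingCat.of A)).Opens).leTop.op = 𝟙 _ :=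
          (congrArg _ (Subsingleton.elim _ (𝟙 _))).trans ((Spec (CommRingCat.of A)).presheaf.map_id _)
        exact congrArg (fun r : Γ(Spec (CommRingCat.of A), ⊤) =>
          r • (show Γ(T, ⊤) from tilde.toOpen (R := CommRingCat.of A) M ⊤ m))
          (congr($(e) ((Scheme.ΓSpecIso (CommRingCat.of A)).inv a))) }
  have h₁ : IsBaseChange S' t₀ := by
    have hb : Function.Bijective (algebraMap A S') :=
      ConcreteCategory.bijective_of_isIso (Scheme.ΓSpecIso (CommRingCat.of A)).inv
    have hmk : Function.Bijective (TensorProduct.mk A S' M 1) := by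
      let e : (M : Type u) ≃ₗ[A] S' ⊗[A] M := (TensorProduct.lid A M).symm.trans
        (TensorProduct.congr (LinearEquiv.ofBijective (Algebra.linearMap A S') hb) (LinearEquiv.refl A M))
      have : ⇑(TensorProduct.mk A S' M 1) = e := funext fun m => by
        simp [e]
      rw [this]
      exact e.bijective
    refine IsBaseChange.of_equiv (LinearEquiv.ofBijective (t₀.liftBaseChange S') ?_) fun m => ?_
    · refine (Function.Bijective.of_comp_iff _ hmk).mp ?_
      have : ⇑(t₀.liftBaseChange S') ∘ ⇑(TensorProduct.mk A S' M 1) = t₀ := funext fun m => by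
        simp
      rw [this]
      exact (tilde.isoTop (R := CommRingCat.of A) M).toLinearEquiv.bijective
    · simp
  let ψ : Γ(T, ⊤) →ₗ[S'] Γ(P, V) :=
    { toFun := puSecLE f T (U := ⊤) le_top
      map_add' := map_add _
      map_smul' := fun r t => puSecLE_smul f T le_top r t }
  have h₂ : IsBaseChange Γ(X, V) ψ :=
    isBaseChange_puSec f T (isAffineOpen_top _) hV le_top (fun _ => rfl) ψ fun _ => rfl
  have h := h₁.comp h₂
  let : Module A Γ(F, V) := Module.compHom _ (secA f V)
  have : IsScalarTower A Γ(X, V) Γ(F, V) := IsScalarTower.of_algebraMap_smul fun _ _ => rfl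
  let e : Γ(F, V) ⊗[A] M → Γ(tens P F, V) := fun x => secTens P F V
    (TensorProduct.comm _ _ _ (TensorProduct.congr (LinearEquiv.refl Γ(X, V) Γ(F, V)) h.equiv
      ((TensorProduct.AlgebraTensorModule.cancelBaseChange A Γ(X, V) Γ(X, V) Γ(F, V) M).symm x)))
  have he : Function.Bijective e :=
    (secTens_bijective P F hV).comp ((TensorProduct.comm _ _ _).bijective.comp
      ((TensorProduct.congr (LinearEquiv.refl Γ(X, V) Γ(F, V)) h.equiv).bijective.comp
        (TensorProduct.AlgebraTensorModule.cancelBaseChange A Γ(X, V) Γ(X, V) Γ(F, V) M).symm.bijective))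
  suffices ∀ x : Γ(F, V) ⊗[A] M, (secTA f F V M x : Γ(tens P F, V)) = e x from by
    change Function.Bijective fun x : Γ(F, V) ⊗[A] M => (secTA f F V M x : Γ(tens P F, V))
    rw [funext this]
    exact he
  intro x
  induction x using TensorProduct.induction_on with
  | zero => simp only [e, map_zero]; exact map_zero (secTA f F V M)
  | tmul s m =>
    simp only [e]
    rw [TensorProduct.AlgebraTensorModule.cancelBaseChange_symm_tmul, TensorProduct.congr_tmul,
      LinearEquiv.refl_apply, IsBaseChange.equiv_tmul, TensorProduct.comm_tmul, secTens_tmul, one_smul]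
    rfl
  | add x y hx hy =>
    refine (map_add (secTA f F V M) x y).trans ?_
    simp only [e, map_add] at hx hy ⊢
    exact congr_arg₂ (· + ·) hx hy

theorem pullEl_natural {M M' : ModuleCat.{u} A} (g : M ⟶ M') (V : X.Opens) (m : M) :
    ((Scheme.Modules.pullback f).map ((tilde.functor (CommRingCat.of A)).map g)).app V (pullEl f M V m) =
      pullEl f M' V (g m) := by
  let t := (tilde.functor (CommRingCat.of A)).map g
  let s : Γ(tilde (R := CommRingCat.of A) M, ⊤) := tilde.toOpen (R := CommRingCat.of A) M ⊤ m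
  refine (QCohLib.app_map _ (homOfLE le_top) _).trans ?_
  refine congrArg _ ((congr($((Scheme.Modules.pullbackPushforwardAdjunction f).unit.naturality t).app ⊤ s)).symm.trans ?_)
  exact congrArg (((Scheme.Modules.pullbackPushforwardAdjunction f).unit.app
    (tilde (R := CommRingCat.of A) M')).app ⊤)
    (ConcreteCategory.congr_hom (tilde.toOpen_map_app (R := CommRingCat.of A) g ⊤) m)

theorem secTA_natural (F : X.Modules) (V : X.Opens) {M M' : ModuleCat.{u} A} (g : M ⟶ M')
    (s : Γ(F, V)) (m : M) :
    ((tA f F).map g).app V (show Γ((tA f F).obj M, V) from secTA f F V M (s ⊗ₜ m)) =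
      (show Γ((tA f F).obj M', V) from secTA f F V M' (s ⊗ₜ g m)) :=
  (prodSec_map_left (X := X) ((Scheme.Modules.pullback f).map ((tilde.functor (CommRingCat.of A)).map g))
    F V (pullEl f M V m) s).trans (congrArg (fun t => prodSec _ F V t s) (pullEl_natural f g V m))

theorem secTA_map (F : X.Modules) {V W : X.Opens} (h : W ≤ V) (M : ModuleCat.{u} A)
    (s : Γ(F, V)) (m : M) :
    ((tA f F).obj M).presheaf.map (homOfLE h).op (show Γ((tA f F).obj M, V) from secTA f F V M (s ⊗ₜ m)) =
      (show Γ((tA f F).obj M, W) from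
        secTA f F W M ((show Γ(F, W) from F.presheaf.map (homOfLE h).op s) ⊗ₜ m)) :=
  (prodSec_map (pb f (tilde (R := CommRingCat.of A) M)) F h (pullEl f M V m) s).trans
    (congrArg (fun t => prodSec _ F W t (F.presheaf.map (homOfLE h).op s)) (map_pullEl f M h m))

end CohBCLib
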