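import Groth.Agent.CohBCLib.HCmp
import Groth.Agent.RpushLib.HBase
import Groth.Agent.FlatCxLib.Extend
import Groth.Agent.KFlatLib.QCohPull

/-! Base change of the Čech complex along an affine base change. -/

set_option autoImplicit false
set_option maxHeartbeats 1000000

universe u

open CategoryTheory CategoryTheory.Limits AlgebraicGeometry TopologicalSpace Opposite TensorProduct
open RpushLib (secFun secMap₀ extSL)

namespace CohBCLib

variable {A B : Type u} [CommRing A] [CommRing B] [Algebra A B] {X X' : Scheme.{u}}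
  {f : X ⟶ Spec (CommRingCat.of A)} {f' : X' ⟶ Spec (CommRingCat.of B)} {g' : X' ⟶ X}
  (H : IsPullback g' f' f (Spec.map (CommRingCat.ofHom (algebraMap A B))))

include H in
theorem secA_bc (V : X.Opens) (U : X'.Opens) (h : U ≤ g' ⁻¹ᵁ V) (a : A) :
    g'.appLE V U h (secA f V a) = secA f' U (algebraMap A B a) := by
  let φ := CommRingCat.ofHom (algebraMap A B)
  have e1 : f.appLE ⊤ V le_top ≫ g'.appLE V U h =
      (Spec.map φ).appLE ⊤ ⊤ le_top ≫ f'.appLE ⊤ U le_top := by
    rw [Scheme.Hom.appLE_comp_appLE, Scheme.Hom.appLE_comp_appLE]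
    congr 1
    exact H.w
  have e2 : φ ≫ (Scheme.ΓSpecIso (CommRingCat.of B)).inv =
      (Scheme.ΓSpecIso (CommRingCat.of A)).inv ≫ (Spec.map φ).appLE ⊤ ⊤ le_top := by
    rw [Scheme.ΓSpecIso_inv_naturality]
    congr 1
  have e3 : ((Scheme.ΓSpecIso (CommRingCat.of A)).inv ≫ f.appLE ⊤ V le_top) ≫ g'.appLE V U h =
      φ ≫ ((Scheme.ΓSpecIso (CommRingCat.of B)).inv ≫ f'.appLE ⊤ U le_top) := by
    rw [Category.assoc, e1, ← Category.assoc, ← e2, Category.assoc]
  exact congr($(e3) a)

include H in
theorem bijective_sec_bc {V : X.Opens} (hV : IsAffineOpen V) {U : X'.Opens}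
    (hU : U = g' ⁻¹ᵁ V ⊓ f' ⁻¹ᵁ ⊤) (M : X.Modules) [Coh.IsQCoh M] (h : U ≤ g' ⁻¹ᵁ V) :
    Function.Bijective (extSL (secMap₀ (σ := algebraMap A B) g' (secA f V) (secA f' U) h
      (secA_bc H V U h) ((Scheme.Modules.pullbackPushforwardAdjunction g').unit.app M))) := by
  subst hU
  refine RpushLib.bijective_secMap₀_of_isPushout g' hV _
    (RpushLib.isAffineOpen_fibre H (isAffineOpen_top _) (isAffineOpen_top _) le_top hV le_top) _ h _ ?_ M
  refine (RpushLib.isPushout_sections H (isAffineOpen_top _) (isAffineOpen_top _) le_top hV le_top).of_iso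
    (Scheme.ΓSpecIso (CommRingCat.of A)) (Iso.refl _) (Scheme.ΓSpecIso (CommRingCat.of B)) (Iso.refl _)
    ?_ ?_ ?_ ?_
  · refine (Category.comp_id _).trans (Eq.symm ?_)
    exact (Iso.hom_inv_id_assoc (Scheme.ΓSpecIso (CommRingCat.of A)) _)
  · rw [← Scheme.ΓSpecIso_naturality]
    congr 1
  · exact (Category.comp_id _).trans (Category.id_comp _).symm
  · refine (Category.comp_id _).trans (Eq.symm ?_)
    exact (Iso.hom_inv_id_assoc (Scheme.ΓSpecIso (CommRingCat.of B)) _)

variable {ι : Type u} (U : ι → X.Opens)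

theorem mem_capX {Z : Scheme.{u}} (W : ι → Z.Opens) {n : ℕ} (J : Fin n → ι) (x : Z) :
    x ∈ capX W J ↔ ∀ a, x ∈ W (J a) := by
  rw [capX, CechLib.cap, ← Finset.inf_univ_eq_iInf, ← SetLike.mem_coe, Opens.coe_finset_inf]
  simp

/-- The pulled back cover. -/
abbrev preU (g' : X' ⟶ X) (U : ι → X.Opens) : ι → X'.Opens := fun i => g' ⁻¹ᵁ U i

theorem capX_preU {n : ℕ} (J : Fin n → ι) (f' : X' ⟶ Spec (CommRingCat.of B)) :
    capX (preU g' U) J = g' ⁻¹ᵁ capX U J ⊓ f' ⁻¹ᵁ ⊤ := by
  ext x
  change x ∈ capX (preU g' U) J ↔ g'.base x ∈ capX U J ∧ True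
  rw [mem_capX, mem_capX, and_true]
  rfl

theorem capX_preU_le {n : ℕ} (J : Fin n → ι) : capX (preU g' U) J ≤ g' ⁻¹ᵁ capX U J := by
  intro x hx
  change g'.base x ∈ capX U J
  exact (mem_capX U J _).2 ((mem_capX (preU g' U) J x).1 hx)

theorem iSup_preU (hcov : (⨆ i, U i) = ⊤) : (⨆ i, preU g' U i) = ⊤ := by
  rw [← g'.preimage_iSup, hcov]
  rfl

include H in
theorem isAffineOpen_capX_preU (haff : ∀ (n : ℕ) (J : Fin (n + 1) → ι), IsAffineOpen (capX U J))
    (n : ℕ) (J : Fin (n + 1) → ι) : IsAffineOpen (capX (preU g' U) J) := by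
  rw [capX_preU U J f']
  exact RpushLib.isAffineOpen_fibre H (isAffineOpen_top _) (isAffineOpen_top _) le_top (haff n J) le_top

/-- The base change of sections over the intersections. -/
noncomputable abbrev bcSec (M : X.Modules) {n : ℕ} (J : Fin n → ι) :
    (secFun (capX U J) (secA f (capX U J))).obj M →ₛₗ[algebraMap A B]
      (secFun (capX (preU g' U) J) (secA f' (capX (preU g' U) J))).obj
        ((Scheme.Modules.pullback g').obj M) :=
  secMap₀ g' (secA f (capX U J)) (secA f' (capX (preU g' U) J)) (capX_preU_le U J)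
    (secA_bc H _ _ _) ((Scheme.Modules.pullbackPushforwardAdjunction g').unit.app M)

/-- The base change of cochains. -/
noncomputable def bcCoch (M : X.Modules) (n : ℕ) :
    CochA f U M n →ₛₗ[algebraMap A B] CochA f' (preU g' U) ((Scheme.Modules.pullback g').obj M) n where
  toFun c J := bcSec H U M J (c J)
  map_add' c c' := funext fun J => map_add (bcSec H U M J) _ _
  map_smul' a c := funext fun J => map_smulₛₗ (bcSec H U M J) a (c J)

theorem bcCoch_dd (M : X.Modules) (n : ℕ) (c : CochA f U M n) :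
    ddA f' (preU g' U) ((Scheme.Modules.pullback g').obj M) n (bcCoch H U M n c) =
      bcCoch H U M (n + 1) (ddA f U M n c) := by
  funext J
  simp only [ddA, LinearMap.pi_apply, LinearMap.sum_apply, LinearMap.smul_apply, LinearMap.comp_apply,
    LinearMap.proj_apply, bcCoch, LinearMap.coe_mk, AddHom.coe_mk, map_sum, map_zsmul]
  refine Finset.sum_congr rfl fun k _ => congrArg _ ?_
  let N := (Scheme.Modules.pullback g').obj M
  let θ := (Scheme.Modules.pullbackPushforwardAdjunction g').unit.app M
  let s : Γ(M, capX U (J ∘ k.succAbove)) := c (J ∘ k.succAbove)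
  have hle := CechLib.cap_comp_le (X := X.toTopCat) U J k.succAbove
  have hle' := CechLib.cap_comp_le (X := X'.toTopCat) (preU g' U) J k.succAbove
  change N.presheaf.map (homOfLE hle').op (N.presheaf.map (homOfLE (capX_preU_le U (J ∘ k.succAbove))).op
      (show Γ(N, g' ⁻¹ᵁ capX U (J ∘ k.succAbove)) from θ.app _ s)) =
    N.presheaf.map (homOfLE (capX_preU_le U J)).op
      (show Γ(N, g' ⁻¹ᵁ capX U J) from θ.app _ (M.presheaf.map (homOfLE hle).op s))
  refine Eq.trans ?_ (congrArg (N.presheaf.map (homOfLE (capX_preU_le U J)).op)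
    (QCohLib.app_map θ (homOfLE hle) s)).symm
  exact (QCohLib.map_map' N (homOfLE hle') (homOfLE (capX_preU_le U (J ∘ k.succAbove))) _).trans
    (QCohLib.map_map' N (homOfLE (capX_preU_le U J)) (homOfLE (g'.preimage_mono hle)) _).symm

variable [Finite ι] (haff : ∀ (n : ℕ) (J : Fin (n + 1) → ι), IsAffineOpen (capX U J))

include haff in
theorem bcCoch_bijective (M : X.Modules) [Coh.IsQCoh M] (n : ℕ) :
    Function.Bijective (extSL (bcCoch H U M n)) := by
  classical
  have : Fintype (Fin (n + 1) → ι) := Fintype.ofFinite _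
  let e : B ⊗[A] CochA f U M n ≃ₗ[B]
      CochA f' (preU g' U) ((Scheme.Modules.pullback g').obj M) n :=
    (TensorProduct.piRight A B B
      (fun J : Fin (n + 1) → ι => ((secFun (capX U J) (secA f (capX U J))).obj M : Type u))).trans
      (LinearEquiv.piCongrRight fun J => LinearEquiv.ofBijective (extSL (bcSec H U M J))
        (bijective_sec_bc H (haff n J) (capX_preU U J f') M _))
  suffices extSL (bcCoch H U M n) = e.toLinearMap by
    rw [this]
    exact e.bijective
  refine RpushLib.extSL_unique fun c => funext fun J => ?_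
  refine (congrFun ((RpushLib.extSL_tmul (bcCoch H U M n) (1 : B) c).trans (one_smul B (bcCoch H U M n c))) J).trans ?_
  simp only [e, LinearEquiv.coe_coe, LinearEquiv.trans_apply, TensorProduct.piRight_apply,
    TensorProduct.piRightHom_tmul, LinearEquiv.piCongrRight_apply, LinearEquiv.ofBijective_apply]
  exact ((RpushLib.extSL_tmul (bcSec H U M J) (1 : B) (c J)).trans (one_smul B (bcSec H U M J (c J)))).symm

variable [Fintype ι] (M : X.Modules) [Coh.IsQCoh M]

/-- `B ⊗ Č(M) ≅ Č(g'^*M)`. -/
noncomputable def bcCechIso :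
    CohIII.bcCx (algebraMap A B) ((cechA f U).obj M) ≅
      (cechA f' (preU g' U)).obj ((Scheme.Modules.pullback g').obj M) :=
  HomologicalComplex.Hom.isoOfComponents
    (fun n => ((FlatCxLib.extEquiv (B := B) (ModuleCat.of A (CochA f U M n))).trans
      (LinearEquiv.ofBijective (extSL (bcCoch H U M n)) (bcCoch_bijective H U haff M n))).toModuleIso)
    fun i j h => by
      obtain rfl : i + 1 = j := h
      refine ModuleCat.hom_ext (LinearMap.ext fun z => ?_)
      have key : ∀ x : B ⊗[A] CochA f U M i,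
          ddA f' (preU g' U) ((Scheme.Modules.pullback g').obj M) i (extSL (bcCoch H U M i) x) =
            extSL (bcCoch H U M (i + 1)) ((ddA f U M i).baseChange B x) := fun x => by
        refine LinearMap.congr_fun (RpushLib.extSL_unique (N' := CochA f' (preU g' U) _ (i + 1))
          (F := (ddA f' (preU g' U) ((Scheme.Modules.pullback g').obj M) i).comp (extSL (bcCoch H U M i)))
          (G := (extSL (bcCoch H U M (i + 1))).comp ((ddA f U M i).baseChange B)) fun c => ?_) x
        rw [LinearMap.comp_apply, LinearMap.comp_apply, LinearMap.baseChange_tmul, RpushLib.extSL_tmul,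
          RpushLib.extSL_tmul, one_smul, one_smul]
        exact bcCoch_dd H U M i c
      refine (congrArg (fun d => d (extSL (bcCoch H U M i) (FlatCxLib.extEquiv (B := B) _ z)))
        (congrArg ModuleCat.Hom.hom (cechA_d f' (preU g' U) ((Scheme.Modules.pullback g').obj M) i))).trans ?_
      refine (key _).trans (congrArg (extSL (bcCoch H U M (i + 1))) ?_)
      refine (congrArg (fun d => LinearMap.baseChange B d (FlatCxLib.extEquiv (B := B) _ z))
        (congrArg ModuleCat.Hom.hom (cechA_d f U M i)).symm).trans ?_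
      exact (FlatCxLib.extEquiv_map (((cechA f U).obj M).d i (i + 1)) z).symm

/-- Cohomology of the base change from the Čech complex. -/
noncomputable def bcHIso (hcov : (⨆ i, U i) = ⊤) (p : ℕ) :
    (CohIII.bcCx (algebraMap A B) ((cechA f U).obj M)).homology p ≅
      (HA f' p).obj ((Scheme.Modules.pullback g').obj M) :=
  have : Coh.IsQCoh ((Scheme.Modules.pullback g').obj M) := KFlatLib.isQCoh_pullback g' M
  (HomologicalComplex.homologyFunctor _ _ p).mapIso (bcCechIso H U haff M) ≪≫
    hCmp f' (preU g' U) (fun n J => isAffineOpen_capX_preU H U haff n J) (iSup_preU U hcov) p _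

end CohBCLib
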