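import Groth.Agent.CohBCLib.NatCech
import Groth.Agent.CohBCLib.TensorA
import Groth.Agent.RpushLib.Hq
import Groth.Agent.QCohLib.Vanishing

/-! The Čech complex of a module as a complex of modules over the base ring. -/

set_option autoImplicit false

universe u

open CategoryTheory CategoryTheory.Limits AlgebraicGeometry TopologicalSpace Opposite
open RpushLib (secFun)

namespace CohBCLib

variable {A : Type u} [CommRing A] {X : Scheme.{u}} (f : X ⟶ Spec (CommRingCat.of A))

/-- Restriction of sections, linearly. -/
noncomputable def rsA (G : X.Modules) {V W : X.Opens} (h : W ≤ V) :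
    (secFun V (secA f V)).obj G →ₗ[A] (secFun W (secA f W)).obj G where
  toFun s := G.presheaf.map (homOfLE h).op (show Γ(G, V) from s)
  map_add' := fun _ _ => map_add (G.presheaf.map (homOfLE h).op).hom _ _
  map_smul' a s := by
    refine (Scheme.Modules.map_smul G _ (secA f V a) (show Γ(G, V) from s)).trans ?_
    exact congrArg (fun r : Γ(X, W) => r • G.presheaf.map (homOfLE h).op (show Γ(G, V) from s)) (map_secA f h a)

theorem rsA_natural {G G' : X.Modules} (g : G ⟶ G') {V W : X.Opens} (h : W ≤ V)
    (s : (secFun V (secA f V)).obj G) :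
    rsA f G' h (((secFun V (secA f V)).map g).hom s) = ((secFun W (secA f W)).map g).hom (rsA f G h s) :=
  congr($(g.mapPresheaf.naturality (homOfLE h).op) (show Γ(G, V) from s)).symm

variable {ι : Type u} (U : ι → X.Opens)

/-- Opens of the Čech complex. -/
abbrev capX {n : ℕ} (J : Fin n → ι) : X.Opens := CechLib.cap (X := X.toTopCat) U J

/-- Cochains. -/
abbrev CochA (G : X.Modules) (n : ℕ) : Type u :=
  ∀ J : Fin (n + 1) → ι, (secFun (capX U J) (secA f (capX U J))).obj G

/-- The differential, linearly. -/
noncomputable def ddA (G : X.Modules) (n : ℕ) : CochA f U G n →ₗ[A] CochA f U G (n + 1) :=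
  LinearMap.pi fun J => ∑ k : Fin (n + 2), ((-1 : ℤ) ^ (k : ℕ)) •
    (rsA f G (CechLib.cap_comp_le (X := X.toTopCat) U J k.succAbove)).comp
      (LinearMap.proj (J ∘ k.succAbove))

theorem ddA_eq (G : X.Modules) (n : ℕ) (c : CochA f U G n) :
    (ddA f U G n c : CechLib.Cochain (X := X.toTopCat) U (Coh.toAb G).obj (n + 1)) =
      CechLib.dd (X := X.toTopCat) U (Coh.toAb G).obj n c := by
  funext J
  rw [CechLib.dd_apply]
  simp only [ddA, LinearMap.pi_apply, LinearMap.sum_apply, LinearMap.smul_apply, LinearMap.comp_apply,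
    LinearMap.proj_apply]
  refine Finset.sum_congr rfl fun k _ => ?_
  exact congrArg (fun t : Γ(G, capX U J) => ((-1 : ℤ) ^ (k : ℕ)) • t) rfl

theorem ddA_comp (G : X.Modules) (n : ℕ) : ddA f U G (n + 1) ∘ₗ ddA f U G n = 0 := by
  refine LinearMap.ext fun c => ?_
  obtain ⟨c', hc'⟩ := (CechLib.cochainEquiv (X := X.toTopCat) U (Coh.toAb G).obj n).surjective c
  change (ddA f U G (n + 1) (ddA f U G n c) : CechLib.Cochain (X := X.toTopCat) U (Coh.toAb G).obj (n + 2)) = _
  rw [ddA_eq f U G (n + 1)]
  refine (congrArg (CechLib.dd (X := X.toTopCat) U (Coh.toAb G).obj (n + 1)) (ddA_eq f U G n c)).trans ?_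
  subst hc'
  rw [← CechLib.ev_d, ← CechLib.ev_d]
  have h := ConcreteCategory.congr_hom
    ((CechLib.cx (X := X.toTopCat) U (Coh.toAb G).obj).d_comp_d n (n + 1) (n + 2)) c'
  exact (congrArg (CechLib.cochainEquiv (X := X.toTopCat) U (Coh.toAb G).obj (n + 2)) h).trans (map_zero _)

/-- The Čech complex of `A`-modules. -/
noncomputable def cechA : X.Modules ⥤ CochainComplex (ModuleCat.{u} A) ℕ where
  obj G := CochainComplex.of (fun n => ModuleCat.of A (CochA f U G n))
    (fun n => ModuleCat.ofHom (ddA f U G n)) (fun n => ModuleCat.hom_ext (ddA_comp f U G n))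
  map {G G'} g :=
    { f := fun n => ModuleCat.ofHom
        (LinearMap.pi fun J => ((secFun (capX U J) (secA f (capX U J))).map g).hom.comp (LinearMap.proj J))
      comm' := by
        rintro i j rfl
        refine (congrArg (_ ≫ ·) (CochainComplex.of_d (fun n => ModuleCat.of A (CochA f U G' n))
          (fun n => ModuleCat.ofHom (ddA f U G' n)) i)).trans (Eq.trans ?_ (congrArg (· ≫ _)
          (CochainComplex.of_d (fun n => ModuleCat.of A (CochA f U G n))
          (fun n => ModuleCat.ofHom (ddA f U G n)) i)).symm)
        refine ModuleCat.hom_ext (LinearMap.ext fun c => funext fun J => ?_)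
        simp only [ModuleCat.hom_comp, LinearMap.comp_apply, ModuleCat.hom_ofHom, ddA, LinearMap.pi_apply,
          LinearMap.sum_apply, LinearMap.smul_apply, LinearMap.proj_apply, map_sum, map_zsmul]
        exact Finset.sum_congr rfl fun k _ => congrArg _ (rsA_natural f g _ _) }
  map_id G := by
    refine HomologicalComplex.hom_ext _ _ fun n => ModuleCat.hom_ext (LinearMap.ext fun c => funext fun J => ?_)
    rfl
  map_comp g g' := by
    refine HomologicalComplex.hom_ext _ _ fun n => ModuleCat.hom_ext (LinearMap.ext fun c => funext fun J => ?_)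
    rfl

/-- Underlying groups: Mathlib's Čech complex. -/
noncomputable def cechAForget :
    cechA f U ⋙ (forget₂ (ModuleCat.{u} A) AddCommGrpCat.{u}).mapHomologicalComplex (ComplexShape.up ℕ) ≅
      SheafOfModules.toSheaf X.ringCatSheaf ⋙ sheafToPresheaf _ _ ⋙
        cechComplexFunctor (C := Opens X) U :=
  NatIso.ofComponents
    (fun G => HomologicalComplex.Hom.isoOfComponents
      (fun n => (CechLib.cochainEquiv (X := X.toTopCat) U (Coh.toAb G).obj n).symm.toAddCommGrpIso)
      (fun i j h => by
        obtain rfl : i + 1 = j := h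
        refine ConcreteCategory.hom_ext _ _ fun c => ?_
        apply (CechLib.cochainEquiv (X := X.toTopCat) U (Coh.toAb G).obj (i + 1)).injective
        refine (CechLib.ev_d (X := X.toTopCat) U (Coh.toAb G).obj i _).trans ?_
        refine (congrArg (CechLib.dd (X := X.toTopCat) U (Coh.toAb G).obj i)
          ((CechLib.cochainEquiv (X := X.toTopCat) U (Coh.toAb G).obj i).apply_symm_apply c)).trans ?_
        refine (ddA_eq f U G i c).symm.trans ?_
        refine Eq.trans ?_ ((CechLib.cochainEquiv (X := X.toTopCat) U (Coh.toAb G).obj (i + 1)).apply_symm_apply _).symm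
        exact (congrArg (fun d => d c) (CochainComplex.of_d (fun n => ModuleCat.of A (CochA f U G n))
          (fun n => ModuleCat.ofHom (ddA f U G n)) i)).symm))
    (fun {G G'} g => by
      refine HomologicalComplex.hom_ext _ _ fun n => ConcreteCategory.hom_ext _ _ fun c => ?_
      apply (CechLib.cochainEquiv (X := X.toTopCat) U (Coh.toAb G').obj n).injective
      funext J
      refine Eq.trans (congrFun
        ((CechLib.cochainEquiv (X := X.toTopCat) U (Coh.toAb G').obj n).apply_symm_apply _) J) ?_
      refine Eq.trans ?_ (CechLib.cochainEquiv_map (X := X.toTopCat) U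
        ((SheafOfModules.toSheaf X.ringCatSheaf).map g).hom n _ J).symm
      exact (congrArg (((SheafOfModules.toSheaf X.ringCatSheaf).map g).hom.app (op (capX U J)))
        (congrFun ((CechLib.cochainEquiv (X := X.toTopCat) U (Coh.toAb G).obj n).apply_symm_apply c) J)).symm)

end CohBCLib
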