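import Groth.Agent.CohBCLib.TensorExact
import Groth.Agent.DRingLib.PCohMore
import Groth.Agent.FlatCxLib.BaseChange

/-! Finite free models of flat complexes with finite cohomology, universal in the coefficients. -/

set_option autoImplicit false

universe u

open CategoryTheory CategoryTheory.Limits HomologicalComplex TensorProduct MonoidalCategory
open CochainComplex (mappingCone)

attribute [local instance] HasDerivedCategory.standard

namespace CohBCLib

variable {A : Type u} [CommRing A]

/-- The embedding of natural numbers in the integers. -/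
abbrev eN : (ComplexShape.up ℕ).Embedding (ComplexShape.up ℤ) := ComplexShape.embeddingUpNat

/-- Homology of `C ⊗ M` and of its extension by zero. -/
noncomputable def extTIso (C : CochainComplex (ModuleCat.{u} A) ℕ) (M : ModuleCat.{u} A) (p : ℕ) :
    CohIII.T (C.extend eN) (p : ℤ) M ≅ CohIII.T C p M :=
  (homologyFunctor _ _ _).mapIso (mapExtendIso eN (tensorRight M) C) ≪≫
    extendHomologyIso _ eN (show eN.f p = (p : ℤ) from rfl)

/-- The natural version. -/
noncomputable def extTNatIso (C : CochainComplex (ModuleCat.{u} A) ℕ) (p : ℕ) :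
    CohIII.TFun (C.extend eN) (p : ℤ) ≅ CohIII.TFun C p :=
  NatIso.ofComponents (fun M => extTIso C M p) fun {M N} g => by
    change homologyMap (CohIII.tensorMap (C.extend eN) g) (p : ℤ) ≫ (extTIso C N p).hom =
      (extTIso C M p).hom ≫ homologyMap (CohIII.tensorMap C g) p
    have h1 : homologyMap (CohIII.tensorMap (C.extend eN) g) (p : ℤ) ≫
        homologyMap (mapExtendIso eN (tensorRight N) C).hom (p : ℤ) =
        homologyMap (mapExtendIso eN (tensorRight M) C).hom (p : ℤ) ≫
          homologyMap (extendMap (CohIII.tensorMap C g) eN) (p : ℤ) :=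
      (homologyMap_comp _ _ _).symm.trans ((congrArg (fun t => homologyMap t (p : ℤ))
        (mapExtendIso_natural eN (tensorRight M) (tensorRight N) C
          ((tensoringRight (ModuleCat.{u} A)).map g))).trans (homologyMap_comp _ _ _))
    exact (Category.assoc _ _ _).symm.trans ((congrArg (fun t => t ≫ _) h1).trans
      ((Category.assoc _ _ _).trans ((congrArg (_ ≫ ·) (extendHomologyIso_hom_naturality _ eN _)).trans
        (Category.assoc _ _ _).symm)))

theorem isZero_T_extend_neg (C : CochainComplex (ModuleCat.{u} A) ℕ) (M : ModuleCat.{u} A) (i : ℤ)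
    (hi : i < 0) : IsZero (CohIII.T (C.extend eN) i M) :=
  (exactAt_iff_isZero_homology _ i).1 (ShortComplex.exact_of_isZero_X₂ _
    ((tensorRight M).map_isZero (C.isZero_extend_X eN i fun n => by
      change (n : ℤ) ≠ i
      omega)))

/-- `C ⊗ A ≅ C`. -/
noncomputable def tensorUnitIso {ι : Type} {c : ComplexShape ι}
    (C : HomologicalComplex (ModuleCat.{u} A) c) : CohIII.tensorObj C (ModuleCat.of A A) ≅ C :=
  (NatIso.mapHomologicalComplex (MonoidalCategory.rightUnitorNatIso (ModuleCat.{u} A)) c).app C ≪≫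
    (Functor.mapHomologicalComplexIdIso _ c).app C

theorem isZero_bc_of_isZero_tensor (B : Type u) [CommRing B] [Algebra A B]
    (D : CochainComplex (ModuleCat.{u} A) ℤ) (j : ℤ)
    (h : IsZero (CohIII.T D j (ModuleCat.of A B))) :
    IsZero ((CohIII.bcCx (algebraMap A B) D).homology j) := by
  rw [KFlatLib.isZero_homology_iff_exists _ (j - 1) j (j + 1) (by omega) rfl]
  intro z hz
  have hc : ∀ (i k : ℤ) (w : B ⊗[A] (D.X i : Type u)),
      TensorProduct.comm A B (D.X k) ((D.d i k).hom.baseChange B w) =
        (D.d i k).hom.rTensor B (TensorProduct.comm A B (D.X i) w) := fun i k w => by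
    induction w using TensorProduct.induction_on with
    | zero => simp
    | tmul b x => simp
    | add x y hx hy => simp [hx, hy]
  let w := FlatCxLib.extEquiv (B := B) (D.X j) z
  have hw : (D.d j (j + 1)).hom.rTensor B (TensorProduct.comm A B (D.X j) w) = 0 := by
    refine (hc _ _ _).symm.trans ((congrArg _ (FlatCxLib.extEquiv_map (D.d j (j + 1)) z).symm).trans ?_)
    exact ((congrArg (fun t => TensorProduct.comm A B (D.X (j + 1)) (FlatCxLib.extEquiv _ t)) hz).trans
      ((congrArg _ (map_zero (FlatCxLib.extEquiv (B := B) (D.X (j + 1))))).trans (map_zero _)))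
  obtain ⟨v, hv⟩ := (isZero_tensor_iff D (ModuleCat.of A B) (j - 1) j (j + 1) (by omega) rfl).1 h _ hw
  refine ⟨(FlatCxLib.extEquiv (B := B) (D.X (j - 1))).symm ((TensorProduct.comm A B (D.X (j - 1))).symm v),
    (FlatCxLib.extEquiv (B := B) (D.X j)).injective ((TensorProduct.comm A B (D.X j)).injective ?_)⟩
  refine (congrArg _ ((FlatCxLib.extEquiv_map (D.d (j - 1) j) _).trans
    (congrArg _ (LinearEquiv.apply_symm_apply _ _)))).trans ?_
  refine (hc _ _ _).trans ?_
  rw [LinearEquiv.apply_symm_apply]
  exact hv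

variable [IsNoetherianRing A]

/-- A finite free model of a flat complex with finite cohomology. -/
structure Model (C : CochainComplex (ModuleCat.{u} A) ℕ) (N : ℕ) where
  /-- the complex -/
  P : CochainComplex (ModuleCat.{u} A) ℤ
  fin : ∀ i, Module.Finite A (P.X i) ∧ Module.Free A (P.X i)
  above : ∀ i, (N : ℤ) < i → IsZero (P.X i)
  neg : ∀ (M : ModuleCat.{u} A) (i : ℤ), i < 0 → IsZero (CohIII.T P i M)
  /-- the comparison -/
  iso : ∀ p : ℕ, CohIII.TFun P (p : ℤ) ≅ CohIII.TFun C p
  bc : ∀ (B : Type u) [CommRing B] [Algebra A B] (p : ℕ),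
    Nonempty ((CohIII.bcCx (algebraMap A B) P).homology (p : ℤ) ≅
      (CohIII.bcCx (algebraMap A B) C).homology p)

theorem exists_model (C : CochainComplex (ModuleCat.{u} A) ℕ) (hflat : ∀ n, Module.Flat A (C.X n))
    (hfin : ∀ n, Module.Finite A (C.homology n)) (N : ℕ)
    (hN : ∀ (M : ModuleCat.{u} A) (n : ℕ), N < n → IsZero (CohIII.T C n M)) :
    Nonempty (Model C N) := by
  let D := C.extend eN
  have hDflat : ∀ i, Module.Flat A (D.X i) := fun i => by
    rcases lt_or_ge i 0 with hi | hi
    · have := ModuleCat.subsingleton_of_isZero (C.isZero_extend_X eN i fun n => by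
        change (n : ℤ) ≠ i
        omega)
      infer_instance
    · obtain ⟨n, rfl⟩ := Int.eq_ofNat_of_zero_le hi
      have := hflat n
      exact Module.Flat.of_linearEquiv (C.extendXIso eN (show eN.f n = (n : ℤ) from rfl)).toLinearEquiv
  have hDT : ∀ M (i : ℤ), (N : ℤ) < i → IsZero ((CohIII.tensorObj D M).homology i) := fun M i hi => by
    obtain ⟨n, rfl⟩ := Int.eq_ofNat_of_zero_le (show 0 ≤ i by omega)
    exact (hN M n (by omega)).of_iso (extTIso C M n)
  have hDfin : ∀ i, Module.Finite A (D.homology i) := fun i => by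
    rcases lt_or_ge i 0 with hi | hi
    · exact Groth.Agent.DRingLib.finite_of_isZero ((exactAt_iff_isZero_homology _ i).1
        (ShortComplex.exact_of_isZero_X₂ _ (C.isZero_extend_X eN i fun n => by
          change (n : ℤ) ≠ i
          omega)))
    · obtain ⟨n, rfl⟩ := Int.eq_ofNat_of_zero_le hi
      have := hfin n
      exact Module.Finite.equiv (C.extendHomologyIso eN (show eN.f n = (n : ℤ) from rfl)).symm.toLinearEquiv
  have hDz : ∀ i, (N : ℤ) < i → IsZero (D.homology i) := fun i hi =>
    (hDT (ModuleCat.of A A) i hi).of_iso ((homologyFunctor _ _ i).mapIso (tensorUnitIso D)).symm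
  have hpc : ∀ m, DRing.IsPseudoCoherent A m (DerivedCategory.Q.obj D) := fun m =>
    Groth.Agent.DRingLib.isPseudoCoherent_of_finite_noetherian (b := (N : ℤ))
      (fun i hi => (hDz i hi).of_iso
        ((DerivedCategory.homologyFunctorFactors (ModuleCat.{u} A) i).app D))
      fun i _ => by
        exact @Module.Finite.equiv _ _ _ _ _ _ _ _ (hDfin i)
          ((DerivedCategory.homologyFunctorFactors (ModuleCat.{u} A) i).app D).symm.toLinearEquiv
  obtain ⟨P, φ, hPb, hPf, hφ⟩ := (Groth.Agent.DRingLib.exists_resolution D (N : ℤ)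
    (Groth.Agent.DRingLib.finite_cone_of_forall hpc) hDz).2
  have hPflat : ∀ i, Module.Flat A (P.X i) := fun i => by
    have := (hPf i).2
    infer_instance
  have hq := fun M => quasiIso_tensor φ hPflat hDflat N hPb hDT M
  let ψ : ∀ i, CohIII.TFun P i ≅ CohIII.TFun D i := fun i =>
    NatIso.ofComponents
      (fun M => @asIso _ _ _ _ (homologyMap (((tensorRight M).mapHomologicalComplex _).map φ) i)
        ((quasiIsoAt_iff_isIso_homologyMap _ _).1 ((hq M).quasiIsoAt i)))
      fun {M M'} g => by
        change homologyMap (CohIII.tensorMap P g) i ≫ homologyMap _ i =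
          homologyMap _ i ≫ homologyMap (CohIII.tensorMap D g) i
        rw [← homologyMap_comp, ← homologyMap_comp]
        exact congrArg (fun t => homologyMap t i) ((NatTrans.mapHomologicalComplex
          ((tensoringRight (ModuleCat.{u} A)).map g) _).naturality φ).symm
  refine ⟨⟨P, hPf, hPb, fun M i hi => (isZero_T_extend_neg C M i hi).of_iso ((ψ i).app M),
    fun p => ψ p ≪≫ extTNatIso C p, fun B _ _ p => ?_⟩⟩
  let F := ModuleCat.extendScalars (algebraMap A B)
  have hF : QuasiIso ((F.mapHomologicalComplex (ComplexShape.up ℤ)).map φ) := by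
    refine (KFlatLib.acyclic_cone_iff _).1 fun i => ?_
    refine (isZero_bc_of_isZero_tensor B (mappingCone φ) i ?_).of_iso
      ((homologyFunctor _ _ i).mapIso (CochainComplex.mappingCone.mapHomologicalComplexIso φ F).symm)
    exact ((KFlatLib.acyclic_cone_iff _).2 (hq (ModuleCat.of A B)) i).of_iso
      ((homologyFunctor _ _ i).mapIso (CochainComplex.mappingCone.mapHomologicalComplexIso φ _))
  have := (quasiIsoAt_iff_isIso_homologyMap _ _).1 (hF.quasiIsoAt (p : ℤ))
  exact ⟨asIso (homologyMap ((F.mapHomologicalComplex (ComplexShape.up ℤ)).map φ) (p : ℤ)) ≪≫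
    (homologyFunctor _ _ _).mapIso (mapExtendIso eN F C) ≪≫
    extendHomologyIso _ eN (show eN.f p = (p : ℤ) from rfl)⟩

section Neg

variable {R : Type u} [CommRing R]

/-- A cochain complex as a chain complex. -/
@[reducible] noncomputable def negCx (P : CochainComplex (ModuleCat.{u} R) ℤ) :
    ChainComplex (ModuleCat.{u} R) ℤ where
  X p := P.X (-p)
  d i j := P.d (-i) (-j)
  shape i j h := P.shape _ _ fun h' => h (by
    change j + 1 = i
    change -i + 1 = -j at h'
    omega)
  d_comp_d' _ _ _ _ _ := P.d_comp_d _ _ _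

/-- The map of the negated complexes. -/
@[reducible] noncomputable def negMap {P Q : CochainComplex (ModuleCat.{u} R) ℤ} (φ : P ⟶ Q) :
    negCx P ⟶ negCx Q where
  f p := φ.f (-p)
  comm' i j _ := φ.comm _ _

/-- The homology of the negated complex. -/
noncomputable def negHomologyIso (P : CochainComplex (ModuleCat.{u} R) ℤ) (p q : ℤ) (h : p = -q) :
    (negCx P).homology q ≅ P.homology p :=
  let a : (negCx P).sc' (q + 1) q (q - 1) ≅ P.sc' (-(q + 1)) p (-q + 1) :=
    ShortComplex.isoMk (Iso.refl (P.X (-(q + 1)))) (P.XIsoOfEq h.symm)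
      (P.XIsoOfEq (show -(q - 1) = -q + 1 by omega))
      ((Category.id_comp _).trans (P.d_comp_XIsoOfEq_hom _ _).symm)
      ((P.XIsoOfEq_hom_comp_d _ _).trans (P.d_comp_XIsoOfEq_hom _ _).symm)
  ShortComplex.homologyMapIso ((negCx P).isoSc' (q + 1) q (q - 1) (by simp) (by simp) ≪≫ a ≪≫
    (P.isoSc' (-(q + 1)) p (-q + 1) (by simp; omega) (by simp; omega)).symm)

end Neg

end CohBCLib
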