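import Groth.Agent.CohBCLib.CechMod
import Groth.Agent.CohBCLib.Model
import Groth.Agent.AtlasCohLib.Finiteness
import Groth.Agent.RichLib.FlatColimit
import Groth.Agent.RichLib.ModFlatGlobal
import Groth.Agent.FlatLib.QStalk

/-! The Čech complex of `F ⊗_A M` is the Čech complex of `F` tensored with `M`; cohomology, linearly. -/

set_option autoImplicit false

universe u

open CategoryTheory CategoryTheory.Limits AlgebraicGeometry TopologicalSpace Opposite TensorProduct
open MonoidalCategory
open RpushLib (secFun)

namespace CohBCLib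

variable {A : Type u} [CommRing A] {X : Scheme.{u}} (f : X ⟶ Spec (CommRingCat.of A))
variable {ι : Type u} (U : ι → X.Opens)

theorem cechA_d (G : X.Modules) (n : ℕ) :
    ((cechA f U).obj G).d n (n + 1) = ModuleCat.ofHom (ddA f U G n) :=
  CochainComplex.of_d (fun n => ModuleCat.of A (CochA f U G n)) (fun n => ModuleCat.ofHom (ddA f U G n)) n

variable [Fintype ι] (F : X.Modules)

/-- Cochains of `F` tensored with `M` to cochains of `F ⊗_A M`. -/
noncomputable def cochT (M : ModuleCat.{u} A) (n : ℕ) :
    CochA f U F n ⊗[A] (M : Type u) →ₗ[A] CochA f U ((tA f F).obj M) n :=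
  LinearMap.pi fun J => (secTA f F (capX U J) M).comp ((LinearMap.proj J).rTensor M)

theorem cochT_tmul (M : ModuleCat.{u} A) (n : ℕ) (c : CochA f U F n) (m : M) (J : Fin (n + 1) → ι) :
    cochT f U F M n (c ⊗ₜ m) J = secTA f F (capX U J) M (c J ⊗ₜ m) := rfl

variable (haff : ∀ (n : ℕ) (J : Fin (n + 1) → ι), IsAffineOpen (capX U J))

include haff in
theorem cochT_bijective [Coh.IsQCoh F] (M : ModuleCat.{u} A) (n : ℕ) :
    Function.Bijective (cochT f U F M n) := by
  classical
  let e : CochA f U F n ⊗[A] (M : Type u) ≃ₗ[A] CochA f U ((tA f F).obj M) n :=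
    (TensorProduct.piLeft A M
        (fun J : Fin (n + 1) → ι => ((secFun (capX U J) (secA f (capX U J))).obj F : Type u))).trans
      (LinearEquiv.piCongrRight fun J => LinearEquiv.ofBijective (secTA f F (capX U J) M)
        (secTA_bijective f F (haff n J) M))
  suffices cochT f U F M n = e.toLinearMap by
    rw [this]
    exact e.bijective
  refine TensorProduct.ext' fun c m => funext fun J => ?_
  simp [e, cochT_tmul]

theorem cochT_dd (M : ModuleCat.{u} A) (n : ℕ) (x : CochA f U F n ⊗[A] (M : Type u)) :
    ddA f U ((tA f F).obj M) n (cochT f U F M n x) = cochT f U F M (n + 1) ((ddA f U F n).rTensor M x) := by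
  induction x using TensorProduct.induction_on with
  | zero => simp only [map_zero]
  | add x y hx hy => simp only [map_add, hx, hy]
  | tmul c m =>
    funext J
    rw [LinearMap.rTensor_tmul, cochT_tmul]
    simp only [ddA, LinearMap.pi_apply, LinearMap.sum_apply, LinearMap.smul_apply, LinearMap.comp_apply,
      LinearMap.proj_apply]
    rw [TensorProduct.sum_tmul, map_sum]
    refine Finset.sum_congr rfl fun k _ => ?_
    rw [← TensorProduct.smul_tmul', map_zsmul, cochT_tmul]
    exact congrArg _ (secTA_map f F (CechLib.cap_comp_le (X := X.toTopCat) U J k.succAbove) M _ m)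

theorem cochT_natural {M M' : ModuleCat.{u} A} (g : M ⟶ M') (n : ℕ) (x : CochA f U F n ⊗[A] (M : Type u)) :
    cochT f U F M' n (g.hom.lTensor (CochA f U F n) x) =
      (((cechA f U).map ((tA f F).map g)).f n).hom (cochT f U F M n x) := by
  induction x using TensorProduct.induction_on with
  | zero => rw [map_zero, map_zero]; exact (map_zero _).symm
  | add x y hx hy => rw [map_add, map_add, hx, hy, map_add]; exact (map_add _ _ _).symm
  | tmul c m =>
    funext J
    exact (secTA_natural f F (capX U J) g (c J) m).symm

variable [Coh.IsQCoh F]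

/-- `Č(F) ⊗_A M ≅ Č(F ⊗_A M)`. -/
noncomputable def cechTIso (M : ModuleCat.{u} A) :
    CohIII.tensorObj ((cechA f U).obj F) M ≅ (cechA f U).obj ((tA f F).obj M) :=
  HomologicalComplex.Hom.isoOfComponents
    (fun n => (LinearEquiv.ofBijective (cochT f U F M n) (cochT_bijective f U F haff M n)).toModuleIso)
    fun i j h => by
      obtain rfl : i + 1 = j := h
      refine ModuleCat.hom_ext (LinearMap.ext fun x => ?_)
      refine (congrArg (fun d => d (cochT f U F M i x))
        (congrArg ModuleCat.Hom.hom (cechA_d f U ((tA f F).obj M) i))).trans ?_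
      refine (cochT_dd f U F M i x).trans ?_
      exact congrArg (fun d => cochT f U F M (i + 1) (LinearMap.rTensor M d x))
        (congrArg ModuleCat.Hom.hom (cechA_d f U F i)).symm

/-- `H^p(Č(F) ⊗ M) ≅ H^p(Č(F ⊗ M))`, naturally. -/
noncomputable def cechTNat (p : ℕ) :
    CohIII.TFun ((cechA f U).obj F) p ≅
      tA f F ⋙ cechA f U ⋙ HomologicalComplex.homologyFunctor _ _ p :=
  NatIso.ofComponents
    (fun M => (HomologicalComplex.homologyFunctor _ _ p).mapIso (cechTIso f U F haff M))
    fun {M M'} g => by
      have h : CohIII.tensorMap ((cechA f U).obj F) g ≫ (cechTIso f U F haff M').hom =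
          (cechTIso f U F haff M).hom ≫ (cechA f U).map ((tA f F).map g) := by
        refine HomologicalComplex.hom_ext _ _ fun n => ModuleCat.hom_ext (LinearMap.ext fun x => ?_)
        exact cochT_natural f U F g n x
      exact (HomologicalComplex.homologyMap_comp _ _ _).symm.trans
        ((congrArg (fun t => HomologicalComplex.homologyMap t p) h).trans
          (HomologicalComplex.homologyMap_comp _ _ _))

section Flat

omit [Fintype ι]

include haff in
theorem flat_cochA [Finite ι] (hfl : FlatMod.IsFlatOver f F) (n : ℕ) : Module.Flat A (CochA f U F n) := by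
  classical
  have hJ : ∀ J : Fin (n + 1) → ι, Module.Flat A ((secFun (capX U J) (secA f (capX U J))).obj F) := fun J => by
    let V := capX U J
    let S' : Type u := Γ(Spec (CommRingCat.of A), ⊤)
    let : Algebra S' Γ(X, V) := (f.appLE ⊤ V le_top).hom.toAlgebra
    let : Module S' Γ(F, V) := Module.compHom _ (f.appLE ⊤ V le_top).hom
    have : IsScalarTower S' Γ(X, V) Γ(F, V) := IsScalarTower.of_algebraMap_smul fun _ _ => rfl
    have h : Module.Flat S' Γ(F, V) := RichLib.FlatColimit.flat_iff_flatLocus_eq_univ.2 fun q => by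
      let P : (V : Scheme.{u}) := (haff n J).isoSpec.inv.base q
      have hq : (haff n J).primeIdealOf ⟨P.1, P.2⟩ = q := by
        change (haff n J).isoSpec.hom.base P = q
        exact congrArg (fun g => g.base q) (haff n J).isoSpec.inv_hom_id
      rw [← hq]
      exact (FlatLib.isFlatOverAt_iff f F ⊤ (isAffineOpen_top _) V (haff n J) le_top P.2 rfl).1 (hfl P.1)
    exact (RichLib.ModFlat.flat_iff_of_semilinear (R := A) (R' := S') (M' := Γ(F, V))
      (show A ≃+* S' from (Scheme.ΓSpecIso (CommRingCat.of A)).symm.commRingCatIsoToRingEquiv)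
      (show ((secFun V (secA f V)).obj F : Type u) ≃+ Γ(F, V) from AddEquiv.refl _)
      (fun a s => rfl)).2 h
  have : Fintype (Fin (n + 1) → ι) := Fintype.ofFinite _
  exact Module.Flat.of_linearEquiv (DFinsupp.linearEquivFunOnFintype (R := A)
    (M := fun J : Fin (n + 1) → ι => ((secFun (capX U J) (secA f (capX U J))).obj F : Type u))).symm

end Flat

end CohBCLib
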