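import Groth.Agent.KFlatLib.PerfectPull
import Groth.Agent.KFlatLib.FPFlatFree
import Groth.Agent.LocSuppLib.LocFree
import Groth.Agent.RpushLib.AdjIso
import Mathlib.RingTheory.LocalRing.Module

/-! Locally free modules from free sections on affine schemes. -/

set_option autoImplicit false
set_option maxHeartbeats 1000000

universe u

open CategoryTheory CategoryTheory.Limits AlgebraicGeometry TopologicalSpace Opposite

namespace CohBCLib

variable {Z : Scheme.{u}} [IsAffine Z]

/-- On an affine scheme a map of quasi-coherent modules bijective on global sections is invertible. -/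
theorem isIso_of_bijective_top {M N : Z.Modules} [Coh.IsQCoh M] [Coh.IsQCoh N] (φ : M ⟶ N)
    (h : Function.Bijective (φ.app ⊤)) : IsIso φ := by
  refine RpushLib.isIso_of_bijective_basis φ (isBasis_basicOpen Z) ?_
  rintro _ ⟨r, rfl⟩
  have hM := QCohLib.localizingAt_of_isQCoh (isAffineOpen_top Z) M r
  have hN := QCohLib.localizingAt_of_isQCoh (isAffineOpen_top Z) N r
  have hu := QCohLib.isUnit_res r (le_refl (Z.basicOpen r))
  refine ⟨(injective_iff_map_eq_zero _).2 fun s hs => ?_, fun s => ?_⟩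
  · obtain ⟨n, t, ht⟩ := hM.exists_extend s
    have h0 : N.presheaf.map (homOfLE (Z.basicOpen_le r)).op (φ.app ⊤ t) = 0 := by
      rw [← QCohLib.app_map, ht, QCohLib.app_smul, hs, smul_zero]
    obtain ⟨k, hk⟩ := hN.eq_zero _ h0
    rw [← QCohLib.app_smul] at hk
    have h1 := h.1 (hk.trans (map_zero _).symm)
    have h2 := congrArg (M.presheaf.map (homOfLE (Z.basicOpen_le r)).op) h1
    rw [Scheme.Modules.map_smul, ht, map_zero, ← mul_smul] at h2
    refine (IsUnit.smul_eq_zero ?_).1 h2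
    refine IsUnit.mul ?_ (hu.pow n)
    rw [map_pow]
    refine IsUnit.pow _ ?_
    rwa [QCohLib.ringMap_map', homOfLE_comp]
  · obtain ⟨n, t, ht⟩ := hN.exists_extend s
    obtain ⟨t', rfl⟩ := h.2 t
    obtain ⟨v, hv⟩ := hu.pow n
    refine ⟨(↑v⁻¹ : Γ(Z, Z.basicOpen r)) • M.presheaf.map (homOfLE (Z.basicOpen_le r)).op t', ?_⟩
    rw [QCohLib.app_smul, QCohLib.app_map, ht, ← hv, ← mul_smul, Units.inv_mul, one_smul]

/-- The inclusions of the free module, on sections. -/
theorem unit_app_eq {M : Z.Modules} (φ : Coh.structureModule Z ⟶ M) (r : Γ(Z, ⊤)) :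
    φ.app ⊤ (show Γ(Coh.structureModule Z, ⊤) from r) = r • KFlatLib.unitSecEquiv M φ := by
  refine Eq.trans ?_ (QCohLib.app_smul φ ⊤ r (show Γ(Coh.structureModule Z, ⊤) from (1 : Γ(Z, ⊤))))
  exact congrArg (φ.app ⊤) (show (show Γ(Coh.structureModule Z, ⊤) from r) = r * (1 : Γ(Z, ⊤)) from
    (mul_one r).symm)

/-- Free sections make a quasi-coherent module on an affine scheme free. -/
theorem nonempty_iso_freeMod (N : Z.Modules) [Coh.IsQCoh N] {n : ℕ}
    (b : Module.Basis (Fin n) Γ(Z, ⊤) Γ(N, ⊤)) : Nonempty (N ≅ FlatMod.freeMod Z n) := by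
  classical
  let s : FlatMod.freeMod Z n ⟶ N := Sigma.desc fun i => (KFlatLib.unitSecEquiv N).symm (b i)
  have : Coh.IsQCoh (FlatMod.freeMod Z n) := LocSuppLib.isQCoh_freeMod Z n
  suffices h : Function.Bijective (s.app ⊤) by
    have := isIso_of_bijective_top s h
    exact ⟨(asIso s).symm⟩
  let ι : Fin n → (Coh.structureModule Z ⟶ FlatMod.freeMod Z n) :=
    fun i => Sigma.ι (fun _ : Fin n => Coh.structureModule Z) i
  let π : Fin n → (FlatMod.freeMod Z n ⟶ Coh.structureModule Z) :=
    fun i => Sigma.desc fun j => if j = i then 𝟙 _ else 0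
  have hid : ∑ i, π i ≫ ι i = 𝟙 (FlatMod.freeMod Z n) := by
    refine Sigma.hom_ext _ _ fun j => ?_
    rw [Preadditive.comp_sum, Category.comp_id, Finset.sum_eq_single j]
    · rw [Sigma.ι_desc_assoc, if_pos rfl, Category.id_comp]
    · intro i _ hij
      rw [Sigma.ι_desc_assoc, if_neg (Ne.symm hij), zero_comp]
    · simp
  let c : Γ(FlatMod.freeMod Z n, ⊤) → Fin n → Γ(Z, ⊤) :=
    fun x i => (show Γ(Z, ⊤) from (π i).app ⊤ x)
  have hdec : ∀ x, x = ∑ i, c x i • KFlatLib.unitSecEquiv _ (ι i) := fun x => by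
    have hx := congrArg (fun φ : FlatMod.freeMod Z n ⟶ FlatMod.freeMod Z n => φ.app ⊤ x) hid
    refine hx.symm.trans ?_
    have hsum : ∀ (t : Finset (Fin n)), (∑ i ∈ t, π i ≫ ι i).app ⊤ x = ∑ i ∈ t, c x i • KFlatLib.unitSecEquiv _ (ι i) := by
      intro t
      induction t using Finset.induction_on with
      | empty => rfl
      | insert a t ha ih =>
        rw [Finset.sum_insert ha, Finset.sum_insert ha, ← ih, ← unit_app_eq (ι a) (c x a)]
        rfl
    exact hsum _
  have hs : ∀ x, s.app ⊤ x = ∑ i, c x i • b i := fun x => by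
    conv_lhs => rw [hdec x]
    rw [map_sum]
    refine Finset.sum_congr rfl fun i _ => ?_
    rw [QCohLib.app_smul, ← KFlatLib.unitSecEquiv_comp]
    simp [s, ι]
  refine ⟨(injective_iff_map_eq_zero _).2 fun x hx => ?_, fun y => ?_⟩
  · rw [hs] at hx
    have hc := Fintype.linearIndependent_iff.1 b.linearIndependent (c x) hx
    rw [hdec x]
    exact Finset.sum_eq_zero fun i _ => by rw [hc i, zero_smul]
  · refine ⟨∑ i, b.repr y i • KFlatLib.unitSecEquiv _ (ι i), ?_⟩
    rw [map_sum]
    refine (Finset.sum_congr rfl fun i _ => ?_).trans (b.sum_repr y)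
    rw [QCohLib.app_smul, ← KFlatLib.unitSecEquiv_comp]
    simp [s, ι]

end CohBCLib
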