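import Groth.Agent.CohBCLib.Exchange
import Mathlib.RingTheory.Filtration
import Mathlib.LinearAlgebra.TensorProduct.Quotient

/-! Local criteria for the exchange property. -/

set_option autoImplicit false
set_option maxHeartbeats 1000000

universe u

open CategoryTheory CategoryTheory.Limits TensorProduct

namespace CohBCLib

variable {A : Type u} [CommRing A] (P : ChainComplex (ModuleCat.{u} A) ℤ) (p : ℤ)

/-- `z ↦ z ⊗ 1`. -/
noncomputable def redMod (J : Ideal A) (i : ℤ) : P.X i →ₗ[A] (P.X i : Type u) ⊗[A] (A ⧸ J) :=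
  (TensorProduct.mk A (P.X i) (A ⧸ J)).flip 1

theorem redMod_eq (J : Ideal A) (i : ℤ) (z : P.X i) :
    TensorProduct.tensorQuotEquivQuotSMul (P.X i) J (redMod P J i z) = Submodule.Quotient.mk z :=
  (TensorProduct.tensorQuotEquivQuotSMul_tmul_mk J z 1).trans (by rw [one_smul])

theorem redMod_surjective (J : Ideal A) (i : ℤ) : Function.Surjective (redMod P J i) := fun x => by
  obtain ⟨z, hz⟩ := Submodule.Quotient.mk_surjective _ (TensorProduct.tensorQuotEquivQuotSMul (P.X i) J x)
  exact ⟨z, (TensorProduct.tensorQuotEquivQuotSMul (P.X i) J).injective ((redMod_eq P J i z).trans hz)⟩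

theorem redMod_eq_zero_iff (J : Ideal A) (i : ℤ) (z : P.X i) :
    redMod P J i z = 0 ↔ z ∈ J • (⊤ : Submodule A (P.X i)) := by
  rw [← (TensorProduct.tensorQuotEquivQuotSMul (P.X i) J).map_eq_zero_iff, redMod_eq,
    Submodule.Quotient.mk_eq_zero]

theorem rTensor_redMod (J : Ideal A) (i j : ℤ) (z : P.X i) :
    (P.d i j).hom.rTensor (A ⧸ J) (redMod P J i z) = redMod P J j ((P.d i j).hom z) := rfl

variable [IsNoetherianRing A] [Module.Finite A (P.X (p - 1))]

/-- Artin–Rees: compatible liftings from all truncations give a lifting. -/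
theorem surjective_of_truncations (m : Ideal A)
    (h : ∀ n : ℕ, Function.Surjective ((CohIII.TFun P p).map
      (ModuleCat.ofHom (Ideal.Quotient.factorₐ A (Ideal.pow_le_self (I := m) (Nat.succ_ne_zero n))).toLinearMap :
        ModuleCat.of A (A ⧸ m ^ (n + 1)) ⟶ ModuleCat.of A (A ⧸ m))).hom) :
    Function.Surjective ((CohIII.TFun P p).map
      (ModuleCat.ofHom (Submodule.mkQ m) : ModuleCat.of A A ⟶ ModuleCat.of A (A ⧸ m))).hom := by
  intro t
  obtain ⟨k, hk⟩ := m.exists_pow_inf_eq_pow_smul (LinearMap.range (P.d p (p - 1)).hom)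
  obtain ⟨s, hs⟩ := h k t
  obtain ⟨y, rfl⟩ := clsT_surjective P p _ s
  obtain ⟨z, hz⟩ := redMod_surjective P (m ^ (k + 1)) p y.1
  have hdz : (P.d p (p - 1)).hom z ∈ m ^ (k + 1) • (⊤ : Submodule A (P.X (p - 1))) := by
    rw [← redMod_eq_zero_iff, ← rTensor_redMod, hz]
    exact LinearMap.mem_ker.1 y.2
  have hdz' : (P.d p (p - 1)).hom z ∈ Submodule.map (P.d p (p - 1)).hom (m • ⊤) := by
    have h1 : (P.d p (p - 1)).hom z ∈
        m ^ (k + 1 - k) • (m ^ k • ⊤ ⊓ LinearMap.range (P.d p (p - 1)).hom) :=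
      (hk (k + 1) (Nat.le_succ k)).le ⟨hdz, LinearMap.mem_range_self _ z⟩
    rw [show k + 1 - k = 1 by omega, pow_one] at h1
    rw [Submodule.map_smul'', Submodule.map_top]
    exact Submodule.smul_mono le_rfl inf_le_right h1
  obtain ⟨w, hw, hwz⟩ := hdz'
  have hcyc : (P.d p (p - 1)).hom.rTensor A ((z - w) ⊗ₜ (1 : A)) = 0 := by
    rw [LinearMap.rTensor_tmul, map_sub, hwz, sub_self, TensorProduct.zero_tmul]
  refine ⟨clsT P p _ ⟨(z - w) ⊗ₜ (1 : A), hcyc⟩, ?_⟩
  refine (map_clsT P p _ _).trans (Eq.trans ?_ ((map_clsT P p _ y).symm.trans hs))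
  refine congrArg (clsT P p _) (Subtype.ext ?_)
  change redMod P m p (z - w) = _
  rw [map_sub, (redMod_eq_zero_iff P m p w).2 hw, sub_zero]
  change redMod P m p z = (Ideal.Quotient.factorₐ A
    (Ideal.pow_le_self (I := m) (Nat.succ_ne_zero k))).toLinearMap.lTensor (P.X p) y.1
  rw [← hz]
  exact congrArg (fun a => z ⊗ₜ[A] a) (map_one (Ideal.Quotient.factorₐ A
    (Ideal.pow_le_self (I := m) (Nat.succ_ne_zero k)))).symm

section Ab

open AlgebraicGeometry

variable {A : Type u} [CommRing A] {X : Scheme.{u}} [X.Over (Spec (CommRingCat.of A))] {F : X.Modules}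

theorem surjective_abMap_iff (U : Univ (X ↘ Spec (CommRingCat.of A)) F) (p : ℕ) {M N : ModuleCat.{u} A}
    (g : M ⟶ N) :
    Function.Surjective ((CohIII.tensorAFunctor A F ⋙ CohIII.HAb X p).map g).hom ↔
      Function.Surjective ((CohIII.TFun U.P (-(p : ℤ))).map g).hom := by
  refine (AddCommGrpCat.epi_iff_surjective _).symm.trans (Iff.trans
    ((MorphismProperty.epimorphisms AddCommGrpCat.{u}).arrow_mk_iso_iff
      (Arrow.isoMk ((abIso U p).app M) ((abIso U p).app N) ((abIso U p).hom.naturality g).symm)) ?_)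
  exact AddCommGrpCat.epi_iff_surjective _

end Ab

end CohBCLib
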