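import Groth.Agent.CechLib.Compare
import Mathlib.Algebra.Homology.HomologySequenceLemmas

/-! Čech cohomology of acyclic families computes cohomology, naturally in the sheaf. -/

universe u

open CategoryTheory CategoryTheory.Limits TopologicalSpace Opposite CategoryTheory.Abelian
open QCohLib (AbSh HU)
open CechLib

namespace CohBCLib

variable {X : TopCat.{u}} {ι : Type u} (U : ι → Opens X)

/-- Functoriality of discontinuous sections. -/
noncomputable def gdMap {F G : AbSh X} (g : F ⟶ G) : gd F ⟶ gd G :=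
  ⟨{ app := fun V => AddCommGrpCat.ofHom (AddMonoidHom.pi fun x : V.unop =>
      ((TopCat.Presheaf.stalkFunctor AddCommGrpCat.{u} x.1).map g.hom).hom.comp
        (Pi.evalAddMonoidHom (fun y : V.unop => (pre F).stalk y.1) x))
     naturality := fun V W i => rfl }⟩

theorem gdι_naturality {F G : AbSh X} (g : F ⟶ G) : g ≫ gdι G = gdι F ≫ gdMap g := by
  refine Sheaf.hom_ext (NatTrans.ext ?_)
  funext V
  ext s
  funext x
  exact (TopCat.Presheaf.stalkFunctor_map_germ_apply (X := X) (C := AddCommGrpCat.{u})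
    V.unop x.1 x.2 g.hom s).symm

/-- The morphism of the quotient sequences. -/
noncomputable def gdSeqMap {F G : AbSh X} (g : F ⟶ G) : gdSeq F ⟶ gdSeq G where
  τ₁ := g
  τ₂ := gdMap g
  τ₃ := cokernel.map _ _ g (gdMap g) (gdι_naturality g).symm
  comm₁₂ := gdι_naturality g
  comm₂₃ := (cokernel.π_desc _ _ _).symm

theorem map_comm {A B C D : AbSh X} {a : A ⟶ B} {b : B ⟶ D} {c : A ⟶ C} {d : C ⟶ D}
    (h : a ≫ b = c ≫ d) :
    (cechComplexFunctor U).map a.hom ≫ (cechComplexFunctor U).map b.hom =
      (cechComplexFunctor U).map c.hom ≫ (cechComplexFunctor U).map d.hom := by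
  rw [← Functor.map_comp, ← Functor.map_comp]
  exact congrArg (fun t : A ⟶ D => (cechComplexFunctor U).map t.hom) h

/-- The morphism of sequences of Čech complexes. -/
noncomputable def cxSeqMap {S T : ShortComplex (AbSh X)} (φ : S ⟶ T) : cxSeq U S ⟶ cxSeq U T where
  τ₁ := (cechComplexFunctor U).map φ.τ₁.hom
  τ₂ := (cechComplexFunctor U).map φ.τ₂.hom
  τ₃ := (cechComplexFunctor U).map φ.τ₃.hom
  comm₁₂ := map_comm U φ.comm₁₂
  comm₂₃ := map_comm U φ.comm₂₃

/-- A family of natural comparison maps in degree `p`. -/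
def IsNatCmp (p : ℕ) (e : ∀ (F : AbSh X), Acyc U F → ((cx U F.obj).homology p ≃+ HU F p (⨆ i, U i))) :
    Prop :=
  ∀ (F G : AbSh X) (hF : Acyc U F) (hG : Acyc U G) (g : F ⟶ G) (x : (cx U F.obj).homology p),
    e G hG (HomologicalComplex.homologyMap ((cechComplexFunctor U).map g.hom) p x) =
      (e F hF x).comp (Ext.mk₀ g) (add_zero p)

theorem delta_natural {S T : ShortComplex (AbSh X)} (hS : S.ShortExact) (hT : T.ShortExact)
    (φ : S ⟶ T) {n m : ℕ} (h : n + 1 = m) (V : Opens X) (x : HU S.X₃ n V) :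
    (x.comp (Ext.mk₀ φ.τ₃) (add_zero n)).comp hT.extClass h =
      (x.comp hS.extClass h).comp (Ext.mk₀ φ.τ₁) (add_zero m) := by
  rw [Ext.comp_assoc_of_second_deg_zero, Ext.comp_assoc_of_third_deg_zero, hS.extClass_naturality hT φ]

theorem exists_isNatCmp (p : ℕ) : ∃ e, IsNatCmp U p e := by
  induction p with
  | zero =>
    refine ⟨fun F _ => (AddEquiv.ofBijective (h0Iso U F).hom (h0Iso_bijective U F)).symm.trans
      QCohLib.h0.symm, fun F G hF hG g x => ?_⟩
    obtain ⟨s, rfl⟩ := (h0Iso_bijective U F).2 x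
    refine Eq.trans ?_ (congrArg (fun t => Ext.comp t (Ext.mk₀ g) (add_zero 0))
      (show QCohLib.h0.symm s = _ from congrArg QCohLib.h0.symm
        ((AddEquiv.ofBijective (h0Iso U F).hom (h0Iso_bijective U F)).symm_apply_apply s).symm))
    refine (congrArg _ (ConcreteCategory.congr_hom (h0Iso_natural U g) s)).trans ?_
    refine (congrArg QCohLib.h0.symm ((AddEquiv.ofBijective (h0Iso U G).hom
      (h0Iso_bijective U G)).symm_apply_apply _)).trans ?_
    rw [AddEquiv.symm_apply_eq, QCohLib.h0_comp, AddEquiv.apply_symm_apply]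
    rfl
  | succ p ih =>
    match p with
    | 0 =>
      have hC : ∀ F, Acyc U F → (cxSeq U (gdSeq F)).ShortExact := fun F h =>
        cxSeq_shortExact U (gdSeq_shortExact F) fun n J => h n J 0
      let ψ : ∀ F (h : Acyc U F), (gdSeq F).X₃.obj.obj (op (⨆ i, U i)) →+ (cx U F.obj).homology 1 :=
        fun F h => (h0Iso U (gdSeq F).X₃ ≫ (hC F h).δ 0 1 rfl).hom
      have hψ : ∀ F h, Function.Surjective (ψ F h) := fun F h => by
        have := (hC F h).epi_δ (i := 0) (j := 1) (hij := rfl) (isZero_gd U F 0)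
        exact ((AddCommGrpCat.epi_iff_surjective _).mp this).comp (h0Iso_bijective U _).2
      have hψnat : ∀ F G (hF : Acyc U F) (hG : Acyc U G) (g : F ⟶ G) q,
          HomologicalComplex.homologyMap ((cechComplexFunctor U).map g.hom) 1 (ψ F hF q) =
            ψ G hG ((gdSeqMap g).τ₃.hom.app (op (⨆ i, U i)) q) := fun F G hF hG g q => by
        have h1 := ConcreteCategory.congr_hom (HomologicalComplex.HomologySequence.δ_naturality
          (cxSeqMap U (gdSeqMap g)) (hC F hF) (hC G hG) 0 1 rfl) (h0Iso U (gdSeq F).X₃ q)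
        refine h1.trans ?_
        exact congrArg ((hC G hG).δ 0 1 rfl)
          (ConcreteCategory.congr_hom (h0Iso_natural U (gdSeqMap g).τ₃) q)
      have hker : ∀ F h, (ψ F h).ker = (QCohLib.delta0 (gdSeq_shortExact F) (⨆ i, U i)).ker := by
        intro F h
        ext q
        rw [AddMonoidHom.mem_ker, AddMonoidHom.mem_ker, QCohLib.delta0_eq_zero_iff (gdSeq_shortExact F)]
        have hnat := h0Iso_natural U (gdSeq F).g
        constructor
        · intro hq
          obtain ⟨z, hz⟩ := (ShortComplex.ab_exact_iff _).mp ((hC F h).homology_exact₃ 0 1 rfl)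
            (h0Iso U _ q) hq
          obtain ⟨t, rfl⟩ := (h0Iso_bijective U (gd F)).2 z
          exact ⟨t, (h0Iso_bijective U _).1 ((ConcreteCategory.congr_hom hnat t).symm.trans hz)⟩
        · rintro ⟨t, rfl⟩
          have h0 := ConcreteCategory.congr_hom ((hC F h).comp_δ 0 1 rfl) (h0Iso U (gd F) t)
          exact (congr_arg ((hC F h).δ 0 1 rfl) (ConcreteCategory.congr_hom hnat t).symm).trans h0
      let e : ∀ F (h : Acyc U F), (cx U F.obj).homology 1 ≃+ HU F 1 (⨆ i, U i) := fun F h =>
        haveI : Subsingleton (HU (gdSeq F).X₂ 1 (⨆ i, U i)) := subsingleton_gd F 0 _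
        (QuotientAddGroup.quotientKerEquivOfSurjective (ψ F h) (hψ F h)).symm.trans
          ((QuotientAddGroup.quotientAddEquivOfEq (hker F h)).trans
            (QuotientAddGroup.quotientKerEquivOfSurjective (QCohLib.delta0 (gdSeq_shortExact F) _)
              (QCohLib.delta0_surjective (gdSeq_shortExact F) _)))
      have he : ∀ F h q, e F h (ψ F h q) = QCohLib.delta0 (gdSeq_shortExact F) _ q := fun F h q => by
        have e1 : QuotientAddGroup.quotientKerEquivOfSurjective (ψ F h) (hψ F h) (q : _ ⧸ (ψ F h).ker) =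
            ψ F h q := rfl
        change ((QuotientAddGroup.quotientKerEquivOfSurjective (ψ F h) (hψ F h)).symm.trans _) (ψ F h q) = _
        rw [← e1, AddEquiv.trans_apply, AddEquiv.symm_apply_apply]
        rfl
      refine ⟨e, fun F G hF hG g x => ?_⟩
      obtain ⟨q, rfl⟩ := hψ F hF x
      rw [hψnat F G hF hG g q, he G hG, he F hF]
      have hsym : QCohLib.h0.symm ((gdSeqMap g).τ₃.hom.app (op (⨆ i, U i)) q) =
          (QCohLib.h0.symm q).comp (Ext.mk₀ (gdSeqMap g).τ₃) (add_zero 0) := by
        rw [AddEquiv.symm_apply_eq, QCohLib.h0_comp, AddEquiv.apply_symm_apply]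
      change Ext.comp (QCohLib.h0.symm _) (gdSeq_shortExact G).extClass (zero_add 1) = _
      rw [hsym]
      exact delta_natural (gdSeq_shortExact F) (gdSeq_shortExact G) (gdSeqMap g) (zero_add 1) _ _
    | p + 1 =>
      obtain ⟨e, he⟩ := ih
      have hC : ∀ F, Acyc U F → (cxSeq U (gdSeq F)).ShortExact := fun F h =>
        cxSeq_shortExact U (gdSeq_shortExact F) fun n J => h n J 0
      let dI : ∀ F (h : Acyc U F), (cx U (gdSeq F).X₃.obj).homology (p + 1) ≃+
          (cx U F.obj).homology (p + 2) := fun F h =>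
        ((hC F h).δIso (p + 1) (p + 2) rfl (isZero_gd U F p) (isZero_gd U F (p + 1))).addCommGroupIsoToAddEquiv
      refine ⟨fun F h => (dI F h).symm.trans ((e _ (acyc_quotient U h)).trans
        (QCohLib.deltaEquiv (gdSeq_shortExact F) p (⨆ i, U i))), fun F G hF hG g x => ?_⟩
      obtain ⟨y, rfl⟩ := (dI F hF).surjective x
      have h1 : HomologicalComplex.homologyMap ((cechComplexFunctor U).map g.hom) (p + 2) (dI F hF y) =
          dI G hG (HomologicalComplex.homologyMap
            ((cechComplexFunctor U).map (gdSeqMap g).τ₃.hom) (p + 1) y) :=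
        ConcreteCategory.congr_hom (HomologicalComplex.HomologySequence.δ_naturality
          (cxSeqMap U (gdSeqMap g)) (hC F hF) (hC G hG) (p + 1) (p + 2) rfl) y
      rw [h1]
      simp only [AddEquiv.trans_apply, AddEquiv.symm_apply_apply, he _ _ (acyc_quotient U hF)]
      exact delta_natural (gdSeq_shortExact F) (gdSeq_shortExact G) (gdSeqMap g) rfl _ _

/-- The chosen natural comparison. -/
noncomputable def cechCmp (p : ℕ) (F : AbSh X) (h : Acyc U F) :
    (cx U F.obj).homology p ≃+ HU F p (⨆ i, U i) :=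
  (exists_isNatCmp U p).choose F h

theorem cechCmp_natural (p : ℕ) : IsNatCmp U p (cechCmp U p) :=
  (exists_isNatCmp U p).choose_spec

end CohBCLib
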