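import Groth.Agent.FlatCxLib.TFun
import Groth.Agent.KFlatLib.CxFlat
import Groth.Agent.KFlatLib.Cone
import Groth.Agent.DRingLib.PCohResolution
import Groth.Agent.DRingLib.ResolProps
import Mathlib.Algebra.Homology.Embedding.ExtendHomology
import Groth.Prelude.Def_ega3

/-! Universal exactness of acyclic flat complexes, universal quasi-isomorphisms, extension by zero. -/

set_option autoImplicit false

universe u

open CategoryTheory CategoryTheory.Limits HomologicalComplex TensorProduct MonoidalCategory
open CochainComplex (mappingCone)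

namespace CohBCLib

variable {A : Type u} [CommRing A] (D : CochainComplex (ModuleCat.{u} A) ℤ)

theorem d_comp_d_hom (i j k : ℤ) : (D.d j k).hom ∘ₗ (D.d i j).hom = 0 := by
  rw [← ModuleCat.hom_comp, D.d_comp_d]
  rfl

/-- `coker (D^{i-1} → D^i)`. -/
abbrev Wc (i j : ℤ) : Type u := D.X j ⧸ LinearMap.range (D.d i j).hom

/-- The map induced by the differential. -/
noncomputable def dbar (i j k : ℤ) : Wc D i j →ₗ[A] D.X k :=
  (LinearMap.range (D.d i j).hom).liftQ (D.d j k).hom (by
    rintro _ ⟨y, rfl⟩
    exact LinearMap.congr_fun (d_comp_d_hom D i j k) y)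

theorem isZero_tensor_iff (M : ModuleCat.{u} A) (i j k : ℤ) (hij : i + 1 = j) (hjk : j + 1 = k) :
    IsZero ((CohIII.tensorObj D M).homology j) ↔
      ∀ z : (D.X j : Type u) ⊗[A] M, (D.d j k).hom.rTensor M z = 0 →
        z ∈ LinearMap.range ((D.d i j).hom.rTensor M) :=
  (KFlatLib.isZero_homology_iff_exists (CohIII.tensorObj D M) i j k hij hjk).trans
    ⟨fun h z hz => h z hz, fun h z hz => h z hz⟩

variable (hflat : ∀ i, Module.Flat A (D.X i))

include hflat in
theorem flat_Wc_succ (i j k : ℤ) (hij : i + 1 = j) (hjk : j + 1 = k)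
    (h : ∀ M, IsZero ((CohIII.tensorObj D M).homology j)) : Module.Flat A (Wc D j k) := by
  rw [Module.Flat.iff_lTensor_preserves_injective_linearMap]
  intro N N' _ _ _ _ f hf
  have := hflat k
  refine (FlatCxLib.surj_iff (D.d i j).hom (D.d j k).hom (d_comp_d_hom D i j k) (i := f)
    (q := (LinearMap.range f).mkQ) hf (LinearMap.exact_map_mkQ_range f) (Submodule.mkQ_surjective _)).1 ?_
  intro y hy
  refine ⟨0, map_zero _, ?_⟩
  obtain ⟨z, hz⟩ := (isZero_tensor_iff D _ i j k hij hjk).1
    (h (ModuleCat.of A (N' ⧸ LinearMap.range f))) y hy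
  exact ⟨-z, by rw [map_zero, map_neg, hz, zero_sub]⟩

include hflat in
theorem flat_Wc (hD : ∀ i, IsZero (D.homology i)) (K : ℤ)
    (h : ∀ M, ∀ i, K < i → IsZero ((CohIII.tensorObj D M).homology i)) :
    ∀ (n : ℕ) (i j : ℤ), i + 1 = j → K + 2 - j ≤ n → Module.Flat A (Wc D i j) := by
  intro n
  induction n with
  | zero =>
    intro i j hij hn
    exact flat_Wc_succ D hflat (i - 1) i j (by omega) hij fun M => h M i (by omega)
  | succ n ih =>
    intro i j hij hn
    have := ih j (j + 1) rfl (by omega)
    have := hflat (j + 1)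
    refine KFlatLib.flat_kernel (dbar D i j (j + 1)) (LinearMap.range (D.d j (j + 1)).hom).mkQ
      ?_ ?_ (Submodule.mkQ_surjective _)
    · rw [injective_iff_map_eq_zero]
      intro w hw
      obtain ⟨x, rfl⟩ := Submodule.mkQ_surjective _ w
      obtain ⟨y, hy⟩ := (KFlatLib.isZero_homology_iff_exists D i j (j + 1) hij rfl).1 (hD j) x hw
      exact (Submodule.Quotient.mk_eq_zero _).2 ⟨y, hy⟩
    · rw [LinearMap.exact_iff, Submodule.ker_mkQ, dbar, Submodule.range_liftQ]

include hflat in
/-- An acyclic complex of flat modules, exact after tensoring in high degrees, is universally exact. -/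
theorem isZero_tensor_of_acyclic (hD : ∀ i, IsZero (D.homology i)) (K : ℤ)
    (h : ∀ M, ∀ i, K < i → IsZero ((CohIII.tensorObj D M).homology i)) (M : ModuleCat.{u} A) (j : ℤ) :
    IsZero ((CohIII.tensorObj D M).homology j) := by
  rw [isZero_tensor_iff D M (j - 1) j (j + 1) (by omega) rfl]
  intro z hz
  have := flat_Wc D hflat hD K h (K + 2 - (j + 1)).toNat j (j + 1) rfl (Int.self_le_toNat _)
  have hinj : Function.Injective (dbar D (j - 1) j (j + 1)) := by
    rw [injective_iff_map_eq_zero]
    intro w hw
    obtain ⟨x, rfl⟩ := Submodule.mkQ_surjective _ w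
    obtain ⟨y, hy⟩ := (KFlatLib.isZero_homology_iff_exists D (j - 1) j (j + 1) (by omega) rfl).1 (hD j) x hw
    exact (Submodule.Quotient.mk_eq_zero _).2 ⟨y, hy⟩
  have hex : Function.Exact (dbar D (j - 1) j (j + 1)) (LinearMap.range (D.d j (j + 1)).hom).mkQ := by
    rw [LinearMap.exact_iff, Submodule.ker_mkQ, dbar, Submodule.range_liftQ]
  have hr := KFlatLib.rTensor_injective_of_flat_quotient _ _ hinj hex (Submodule.mkQ_surjective _) M
  rw [← FlatCxLib.mkQ_eq_zero_iff]
  apply hr
  rw [map_zero, ← LinearMap.comp_apply, ← LinearMap.rTensor_comp]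
  exact hz

end CohBCLib

namespace CohBCLib

variable {A : Type u} [CommRing A]

theorem isIso_inr_f {P C : CochainComplex (ModuleCat.{u} A) ℤ} (φ : P ⟶ C) (i : ℤ)
    (h : IsZero (P.X (i + 1))) : IsIso ((CochainComplex.mappingCone.inr φ).f i) := by
  refine ⟨(CochainComplex.mappingCone.snd φ).v i i (add_zero i), by simp, ?_⟩
  refine (CochainComplex.mappingCone.ext_from_iff φ (i + 1) i rfl _ _).mpr ⟨?_, by simp⟩
  exact h.eq_of_src _ _

/-- A quasi-isomorphism from a bounded above flat complex to a flat complex with universally bounded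
above homology stays a quasi-isomorphism after tensoring. -/
theorem quasiIso_tensor {P C : CochainComplex (ModuleCat.{u} A) ℤ} (φ : P ⟶ C) [QuasiIso φ]
    (hP : ∀ i, Module.Flat A (P.X i)) (hC : ∀ i, Module.Flat A (C.X i))
    (b : ℤ) (hb : ∀ i, b < i → IsZero (P.X i))
    (hN : ∀ M, ∀ i, b < i → IsZero ((CohIII.tensorObj C M).homology i)) (M : ModuleCat.{u} A) :
    QuasiIso (((tensorRight M).mapHomologicalComplex (ComplexShape.up ℤ)).map φ) := by
  refine (KFlatLib.acyclic_cone_iff _).1 fun i => ?_
  refine IsZero.of_iso (isZero_tensor_of_acyclic (mappingCone φ) (Groth.Agent.DRingLib.flat_cone hP hC φ)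
    ((KFlatLib.acyclic_cone_iff φ).2 inferInstance) (b + 1) (fun M j hj => ?_) M i) ?_
  rotate_left
  · exact (homologyFunctor _ _ i).mapIso
      (CochainComplex.mappingCone.mapHomologicalComplexIso φ (tensorRight M)).symm
  refine Groth.Agent.DRingLib.isZero_homology_of_isIso_f
    (((tensorRight M).mapHomologicalComplex (ComplexShape.up ℤ)).map (CochainComplex.mappingCone.inr φ))
    j ?_ ?_ ?_ (hN M j (by omega))
  all_goals
    refine @Functor.map_isIso _ _ _ _ _ _ (tensorRight M) _ (isIso_inr_f φ _ (hb _ ?_))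
    omega

section Extend

variable {ι ι' : Type} {c : ComplexShape ι} {c' : ComplexShape ι'} (e : c.Embedding c')
  {R : Type u} [CommRing R] {S : Type u} [CommRing S]
  (F G : ModuleCat.{u} R ⥤ ModuleCat.{u} S) [F.Additive] [G.Additive]
  (K : HomologicalComplex (ModuleCat.{u} R) c)

/-- An additive functor commutes with extension by zero, in each degree. -/
noncomputable def mapExtendXIso : ∀ o : Option ι, F.obj (extend.X K o) ≅ extend.X ((F.mapHomologicalComplex c).obj K) o
  | some _ => Iso.refl _
  | none => (F.map_isZero (isZero_zero _)).iso (isZero_zero _)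

/-- An additive functor commutes with extension by zero. -/
noncomputable def mapExtendIso :
    (F.mapHomologicalComplex c').obj (K.extend e) ≅ ((F.mapHomologicalComplex c).obj K).extend e :=
  Hom.isoOfComponents (fun i => mapExtendXIso F K (e.r i)) fun i j _ => by
    change (mapExtendXIso F K (e.r i)).hom ≫ extend.d _ (e.r i) (e.r j) =
      F.map (extend.d K (e.r i) (e.r j)) ≫ (mapExtendXIso F K (e.r j)).hom
    cases e.r i with
    | none => exact (F.map_isZero (isZero_zero _)).eq_of_src _ _
    | some a =>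
      cases e.r j with
      | none => exact (isZero_zero _).eq_of_tgt _ _
      | some b =>
        simp [mapExtendXIso, extend.d]
        rfl

theorem mapExtendIso_natural (τ : F ⟶ G) :
    (NatTrans.mapHomologicalComplex τ c').app (K.extend e) ≫ (mapExtendIso e G K).hom =
      (mapExtendIso e F K).hom ≫ extendMap ((NatTrans.mapHomologicalComplex τ c).app K) e := by
  ext i : 1
  change τ.app (extend.X K (e.r i)) ≫ (mapExtendXIso G K (e.r i)).hom =
    (mapExtendXIso F K (e.r i)).hom ≫ extend.mapX _ (e.r i)
  cases e.r i with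
  | none => exact (F.map_isZero (isZero_zero _)).eq_of_src _ _
  | some a => exact (Category.comp_id _).trans (Category.id_comp _).symm

end Extend

end CohBCLib
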