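import Groth.Agent.CohBCLib.Univ
import Groth.Agent.CohBCLib.BC
import Mathlib.AlgebraicGeometry.ResidueField

/-! The universal complex under base change; fibre ranks. -/

set_option autoImplicit false
set_option maxHeartbeats 1000000

universe u

open CategoryTheory CategoryTheory.Limits AlgebraicGeometry TopologicalSpace Opposite HomologicalComplex

namespace CohBCLib

variable {A : Type u} [CommRing A] [IsNoetherianRing A] {X : Scheme.{u}} (f : X ⟶ Spec (CommRingCat.of A))

/-- The universal complex computes cohomology after every affine base change. -/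
def Univ.BC {F : X.Modules} (U : Univ f F) : Prop :=
  ∀ (B : Type u) [CommRing B] [Algebra A B] (X' : Scheme.{u}) (g' : X' ⟶ X) (f' : X' ⟶ Spec (CommRingCat.of B)),
    IsPullback g' f' f (Spec.map (CommRingCat.ofHom (algebraMap A B))) → ∀ p : ℕ,
      Nonempty ((CohIII.bcCx (algebraMap A B) U.P).homology (-(p : ℤ)) ≅
        (HA f' p).obj ((Scheme.Modules.pullback g').obj F))

theorem exists_univ_bc [IsProper f] (F : X.Modules) (hF : Coh.IsCoh F) (hfl : FlatMod.IsFlatOver f F) :
    ∃ U : Univ f F, U.BC f := by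
  have : Coh.IsQCoh F := hF.1
  obtain ⟨ι, _, U, hcov, haff, hinf⟩ := exists_good_cover f
  obtain ⟨m⟩ := exists_model_cech f F hF hfl U hcov haff hinf
  refine ⟨univOfModel f F U hcov haff m, fun B _ _ X' g' f' H p => ?_⟩
  obtain ⟨e⟩ := m.bc B p
  exact ⟨negHomologyIso (CohIII.bcCx (algebraMap A B) m.P) (p : ℤ) (-(p : ℤ)) (neg_neg _).symm ≪≫ e ≪≫
    bcHIso H U haff F hcov p⟩

omit [IsNoetherianRing A] in
theorem toGlobal_comp_specMap {Z : Scheme.{u}} {R S : CommRingCat.{u}} (e : Z ⟶ Spec R) (φ : S ⟶ R) (c : S) :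
    Coh.toGlobal (A := S) (e ≫ Spec.map φ) c = Coh.toGlobal (A := R) e (φ c) := by
  have h : (Scheme.ΓSpecIso S).inv ≫ (e ≫ Spec.map φ).appTop =
      φ ≫ (Scheme.ΓSpecIso R).inv ≫ e.appTop := by
    rw [Scheme.Hom.comp_appTop, ← Category.assoc, ← Scheme.ΓSpecIso_inv_naturality, Category.assoc]
  exact congr($(h) c)

theorem finrank_eq_of_semilinear {K K' M M' : Type u} [CommRing K] [CommRing K'] [AddCommGroup M]
    [AddCommGroup M'] [Module K M] [Module K' M'] (i : K ≃+* K') (j : M ≃+ M')
    (h : ∀ r m, j (r • m) = i r • j m) : Module.finrank K M = Module.finrank K' M' :=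
  congrArg Cardinal.toNat (rank_eq_of_equiv_equiv i j i.bijective h)

/-- Fibre ranks are the ranks of the universal complex. -/
theorem fiberRank_eq {F : X.Modules} (U : Univ f F) (hU : U.BC f) (p : ℕ)
    (y : ↑(Spec (CommRingCat.of A))) :
    CohIII.fiberRank f F p y = CohIII.dRank U.P (-(p : ℤ)) y := by
  let K := y.asIdeal.ResidueField
  let r := Scheme.Spec.residueFieldIso (CommRingCat.of A) y
  let f' : f.fiber y ⟶ Spec (CommRingCat.of K) := f.fiberToSpecResidueField y ≫ Spec.map r.inv
  have hsq : IsPullback (f.fiberι y) f' f (Spec.map (CommRingCat.ofHom (algebraMap A K))) := by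
    refine (IsPullback.of_hasPullback f ((Spec (CommRingCat.of A)).fromSpecResidueField y)).of_iso
      (Iso.refl _) (Iso.refl _) (Scheme.Spec.mapIso r.symm.op) (Iso.refl _) ?_ ?_ ?_ ?_
    · exact (Category.comp_id _).trans (Category.id_comp _).symm
    · exact ((Category.id_comp _).trans rfl).symm
    · exact (Category.comp_id _).trans (Category.id_comp _).symm
    · rw [Iso.refl_hom, Category.comp_id]
      exact (Scheme.Spec.map_residueFieldIso_inv_eq_fromSpecResidueField (CommRingCat.of A) y).symm
  obtain ⟨e⟩ := hU K (f.fiber y) (f.fiberι y) f' hsq p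
  let _ := Module.compHom (CohIII.fiberH f F y p) (Coh.toGlobal f')
  have h1 : Module.finrank K (CohIII.fiberH f F y p) = CohIII.dRank U.P (-(p : ℤ)) y :=
    e.toLinearEquiv.finrank_eq.symm
  rw [← h1]
  exact (finrank_eq_of_semilinear (K := K) r.symm.commRingCatIsoToRingEquiv
    (AddEquiv.refl (CohIII.fiberH f F y p)) fun c x =>
      congrArg (fun t : Coh.Γtop (f.fiber y) => t • x)
        (toGlobal_comp_specMap (f.fiberToSpecResidueField y) r.inv c)).symm

end CohBCLib
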